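/-
Orbit root elements of twisted E6 in characteristic two.
-/
import Cfsg.Agent.Lib.Chev.SLInvol.E6Table
import Cfsg.Agent.Lib.Chev.Twist.Fam.E6

set_option autoImplicit false
set_option maxRecDepth 100000
set_option maxHeartbeats 1000000

namespace CfsgLib.Chev.E62Invol

open Cfsg.Lie Matrix CfsgLib.Chev CfsgLib.Chev.SLInv

/-- the symmetry of the roots -/
noncomputable abbrev ρ (r : ℕ) : ℕ := foldE62.r r

/-- the pairing -/
notation "ipE" => SLInv.ip chevE6 auxE6

/-- an additive weight separating the orbits -/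
noncomputable def wt (r : ℕ) : ℤ :=
  100 * auxE6.a r 0 + 101 * auxE6.a r 1 + 103 * auxE6.a r 2 + 107 * auxE6.a r 3 + 103 * auxE6.a r 4 +
    100 * auxE6.a r 5

theorem std_facts : Facts chevE6 auxE6 := facts stdE6.good SLInv.E6.lace_ok

lemma pos_list : ∀ {r : ℕ}, chevE6.IsPosRoot r → r ∈ chevE6.posRoots := fun h => posRoots_mem.2 h

/-- the checks on a pair of positive roots -/
noncomputable def orbB (r s : ℕ) : Bool :=
  decide (ipE (ρ r) (ρ s) = ipE r s) && (decide (wt r ≠ wt s) || decide (r = s) || decide (s = ρ r))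

/-- the checks on a positive root -/
noncomputable def rootB (r : ℕ) : Bool :=
  posB chevE6 auxE6 (ρ r) && decide (ρ r < chevE6.nroots) && decide (wt (ρ r) = wt r) && decide (0 < wt r) &&
    decide (ρ (ρ r) = r) && (decide (ρ r = r) || decide (ipE r (ρ r) = 0))

lemma orb_table : (chevE6.posRoots.all fun r => rootB r && chevE6.posRoots.all fun s => orbB r s) = true := by
  decide +kernel

lemma rho_table : ((List.range chevE6.nroots).all fun r => decide (ρ r < chevE6.nroots) &&
    decide (ρ (ρ r) = r) && decide (ρ (auxE6.neg r) = auxE6.neg (ρ r)) &&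
    (decide (symE6.e r = 1) || decide (symE6.e r = -1))) = true := by decide +kernel

lemma rho_spec {r : ℕ} (hr : r < chevE6.nroots) :
    ρ r < chevE6.nroots ∧ ρ (ρ r) = r ∧ ρ (auxE6.neg r) = auxE6.neg (ρ r) ∧ (symE6.e r = 1 ∨ symE6.e r = -1) := by
  have h := List.all_eq_true.1 rho_table r (List.mem_range.2 hr)
  simp only [Bool.and_eq_true, Bool.or_eq_true, decide_eq_true_eq] at h
  exact ⟨h.1.1.1, h.1.1.2, h.1.2, h.2⟩

section pos

variable {r s : ℕ} (hr : chevE6.IsPosRoot r)

include hr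

lemma root_spec : chevE6.IsPosRoot (ρ r) ∧ wt (ρ r) = wt r ∧ 0 < wt r ∧ (ρ r = r ∨ ipE r (ρ r) = 0) := by
  have h := List.all_eq_true.1 orb_table r (pos_list hr)
  simp only [rootB, Bool.and_eq_true, Bool.or_eq_true, decide_eq_true_eq] at h
  exact ⟨(posB_iff stdE6.good h.1.1.1.1.1.2).1 h.1.1.1.1.1.1, h.1.1.1.1.2, h.1.1.1.2, h.1.2⟩

lemma rho_pos : chevE6.IsPosRoot (ρ r) := (root_spec hr).1

lemma wt_rho : wt (ρ r) = wt r := (root_spec hr).2.1

lemma wt_pos : 0 < wt r := (root_spec hr).2.2.1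

lemma pair_ip (h : ρ r ≠ r) : ipE r (ρ r) = 0 := (root_spec hr).2.2.2.resolve_left h

variable (hs : chevE6.IsPosRoot s)

include hs

lemma ip_rho : ipE (ρ r) (ρ s) = ipE r s := by
  have h := List.all_eq_true.1 (Bool.and_eq_true_iff.1 (List.all_eq_true.1 orb_table r (pos_list hr))).2 s (pos_list hs)
  simp only [orbB, Bool.and_eq_true, decide_eq_true_eq] at h
  exact h.1

lemma wt_eq (h : wt r = wt s) : s = r ∨ s = ρ r := by
  have h' := List.all_eq_true.1 (Bool.and_eq_true_iff.1 (List.all_eq_true.1 orb_table r (pos_list hr))).2 s (pos_list hs)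
  simp only [orbB, Bool.and_eq_true, Bool.or_eq_true, decide_eq_true_eq] at h'
  rcases h'.2 with (h'' | h'') | h''
  · exact absurd h h''
  · exact .inl h''.symm
  · exact .inr h''

lemma ip_rho_left : ipE (ρ r) s = ipE r (ρ s) := by
  have := ip_rho (rho_pos hr) hs
  rwa [(rho_spec hr.1).2.1, eq_comm] at this

end pos

lemma wt_sum {a b u : ℕ} (h : ∀ j < chevE6.rank, auxE6.a u j = auxE6.a a j + auxE6.a b j) :
    wt u = wt a + wt b := by
  have hr : chevE6.rank = 6 := rfl
  simp only [wt, h 0 (by omega), h 1 (by omega), h 2 (by omega), h 3 (by omega), h 4 (by omega), h 5 (by omega)]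
  ring

lemma sum_spec {a b : ℕ} (ha : chevE6.IsPosRoot a) (hb : chevE6.IsPosRoot b) (e : ipE a b = -1) :
    chevE6.IsPosRoot (sumI auxE6 a b) ∧ wt (sumI auxE6 a b) = wt a + wt b ∧
      ∀ r, ipE r (sumI auxE6 a b) = ipE r a + ipE r b :=
  ⟨(std_facts.sum a b ha hb e).1, wt_sum (std_facts.sum a b ha hb e).2,
    (sum_facts stdE6 std_facts ha hb e).2.2.2⟩

variable {K : Type*} [Field K] [CharP K 2] {σ : K →+* K}

/-- root elements -/
local notation "X" => xG (Std.good stdE6)

lemma maps_X {r : ℕ} (hr : r < chevE6.nroots) (t : K) : (E62.tw σ).Maps (X r t) (X (ρ r) (σ t)) := by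
  have h := (E62.tw σ).maps_xG hr t
  have hp : (E62.tw σ).phi r t = σ t := by
    show (symE6.e r : K) * σ t = σ t
    rcases (rho_spec hr).2.2.2 with e | e <;> simp [e, CharTwo.neg_eq]
  rwa [hp] at h

/-- the orbit root element -/
noncomputable def Ob (σ : K →+* K) (r : ℕ) (c : K) : GL chevE6.Idx K :=
  if ρ r = r then X r c else X r c * X (ρ r) (σ c)

/-- the coefficient belongs to the orbit -/
def Coef (σ : K →+* K) (r : ℕ) (c : K) : Prop := ρ r = r → σ c = c

lemma comm_pair {r : ℕ} (hr : chevE6.IsPosRoot r) (t u : K) : Commute (X r t) (X (ρ r) u) := by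
  by_cases h : ρ r = r
  · rw [h]
    show _ * _ = _ * _
    rw [xG_add, xG_add, add_comm]
  · exact commute_perp stdE6 std_facts hr (rho_pos hr) (by rw [pair_ip hr h]; decide) t u

lemma Ob_fix (hinv : ∀ a, σ (σ a) = a) {r : ℕ} (hr : chevE6.IsPosRoot r) {c : K} (hc : Coef σ r c) :
    Ob σ r c ∈ (E62.tw σ).fix := by
  unfold Ob
  split_ifs with h
  · have := maps_X (σ := σ) hr.1 c
    rwa [h, hc h] at this
  · have := Twist.Maps.mul _ (maps_X (σ := σ) hr.1 c) (maps_X (σ := σ) (rho_pos hr).1 (σ c))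
    rw [(rho_spec hr.1).2.1, hinv, ← (comm_pair hr c (σ c)).eq] at this
    exact this

lemma Ob_mul {r : ℕ} (hr : chevE6.IsPosRoot r) (a b : K) : Ob σ r a * Ob σ r b = Ob σ r (a + b) := by
  unfold Ob
  split_ifs with h
  · exact xG_add stdE6.good r a b
  · rw [map_add, ← xG_add, ← xG_add, mul_assoc, ← mul_assoc (X (ρ r) (σ a)), ← (comm_pair hr b (σ a)).eq]
    group

lemma Ob_sq {r : ℕ} (hr : chevE6.IsPosRoot r) (a : K) : Ob σ r a * Ob σ r a = 1 := by
  rw [Ob_mul hr, CharTwo.add_self_eq_zero]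
  unfold Ob
  split_ifs <;> simp [xG_zero]

lemma Ob_inv {r : ℕ} (hr : chevE6.IsPosRoot r) (a : K) : (Ob σ r a)⁻¹ = Ob σ r a :=
  inv_eq_of_mul_eq_one_right (Ob_sq hr a)

lemma Ob_mem {P : ℕ → Prop} {r : ℕ} (h1 : P r) (h2 : P (ρ r)) (c : K) : Ob σ r c ∈ UP K stdE6.good P := by
  unfold Ob
  split_ifs
  · exact xG_mem_UP stdE6.good h1 c
  · exact mul_mem (xG_mem_UP stdE6.good h1 c) (xG_mem_UP stdE6.good h2 _)

/-- conjugation of a root element by another modulo a subgroup containing the sums -/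
lemma conj_mod {P : ℕ → Prop} {t r : ℕ} (ht : chevE6.IsPosRoot t) (hr : chevE6.IsPosRoot r)
    (hP : ipE r t = -1 → P (sumI auxE6 r t)) (d u : K) :
    (X r u)⁻¹ * (X t d * X r u * (X t d)⁻¹) ∈ UP K stdE6.good P := by
  rw [conj_root stdE6 std_facts ht hr]
  split_ifs with e
  · rw [inv_mul_cancel_left]
    exact xG_mem_UP stdE6.good (hP (by rw [← e]; exact std_facts.symm r t hr ht)) _
  · rw [inv_mul_cancel]
    exact one_mem _

/-- splitting off a root normalizing the rest -/
lemma split_one {P P' : ℕ → Prop} {q : ℕ} (hq : chevE6.IsPosRoot q) (hP : ∀ r, P r → r = q ∨ P' r)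
    (hpos : ∀ r, P' r → chevE6.IsPosRoot r) (hn : ∀ r, P' r → ipE r q = -1 → P' (sumI auxE6 r q))
    {y : GL chevE6.Idx K} (hy : y ∈ UP K stdE6.good P) :
    ∃ z, ∃ v ∈ UP K stdE6.good P', y = X q z * v := by
  have hc : ∀ z : K, ∀ v ∈ UP K stdE6.good P', X q z * v * (X q z)⁻¹ ∈ UP K stdE6.good P' := by
    intro z v hv
    suffices UP K stdE6.good P' ≤ (UP K stdE6.good P').comap (MulAut.conj (X q z)).toMonoidHom from this hv
    refine UP_le fun r u hr => ?_
    show X q z * X r u * (X q z)⁻¹ ∈ UP K stdE6.good P'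
    have := conj_mod hq (hpos r hr) (hn r hr) z u
    simpa using mul_mem (xG_mem_UP stdE6.good hr u) this
  induction hy using Subgroup.closure_induction with
  | one => exact ⟨0, 1, one_mem _, by simp [xG_zero]⟩
  | mul a b _ _ iha ihb =>
    obtain ⟨z, v, hv, rfl⟩ := iha
    obtain ⟨z', v', hv', rfl⟩ := ihb
    refine ⟨z + z', (X q z')⁻¹ * v * X q z' * v', mul_mem ?_ hv', ?_⟩
    · rw [xG_inv, ← inv_inv (X q z'), xG_inv]
      exact hc (-z') v hv
    · rw [← xG_add]; group
  | inv a _ iha =>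
    obtain ⟨z, v, hv, rfl⟩ := iha
    refine ⟨-z, X q z * v⁻¹ * (X q z)⁻¹, hc z _ (inv_mem hv), ?_⟩
    rw [← xG_inv]
    group
  | mem a ha =>
    obtain ⟨r, u, hr, rfl⟩ := ha
    rcases hP r hr with rfl | h
    · exact ⟨u, 1, one_mem _, by rw [mul_one]⟩
    · exact ⟨0, _, xG_mem_UP stdE6.good h u, by rw [xG_zero, one_mul]⟩

/-- a fixed element splits as an orbit element times a fixed element of a complement -/
lemma split_orbit (hinv : ∀ a, σ (σ a) = a) {P P' : ℕ → Prop} {q : ℕ} (hq : chevE6.IsPosRoot q)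
    (hP : ∀ r, P r → r = q ∨ r = ρ q ∨ P' r) (hpos : ∀ r, P' r → chevE6.IsPosRoot r)
    (hC : ClosedP chevE6 auxE6 P') (hstab : ∀ r, P' r → P' (ρ r)) (hnq : ¬ P' q)
    (hup : ∀ r, (P' r ∨ r = ρ q) → ipE r q = -1 → P' (sumI auxE6 r q))
    {w : GL chevE6.Idx K} (hw : w ∈ UP K stdE6.good P) (hf : w ∈ (E62.tw σ).fix) :
    ∃ z, Coef σ q z ∧ ∃ v ∈ UP K stdE6.good P', v ∈ (E62.tw σ).fix ∧ w = Ob σ q z * v := by
  classical
  have hqq := rho_pos hq
  have hnq' : ¬ P' (ρ q) := fun h => hnq (by simpa [(rho_spec hq.1).2.1] using hstab _ h)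
  have hC2 : ∀ {a}, (a = q ∨ a = ρ q) → ClosedP chevE6 auxE6 (fun r => P' r ∨ r = a) := by
    intro a ha x y hx hy e
    refine .inl ?_
    have hfix : ∀ r, P' r → ipE r a = -1 → P' (sumI auxE6 r a) ∧ P' (sumI auxE6 a r) := by
      intro r hr e
      have hap : chevE6.IsPosRoot a := by rcases ha with rfl | rfl <;> assumption
      have hra := hpos r hr
      have e' : ipE a r = -1 := by rw [← e]; exact std_facts.symm a r hap hra
      have key : P' (sumI auxE6 r a) := by
        rcases ha with rfl | rfl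
        · exact hup r (.inl hr) e
        · have h1 : ipE (ρ r) q = -1 := by
            rw [← e, ip_rho_left hra hq]
          have h2 := hup (ρ r) (.inl (hstab r hr)) h1
          obtain ⟨hs, hws, -⟩ := sum_spec (rho_pos hra) hq h1
          obtain ⟨hs', hws', -⟩ := sum_spec hra hqq e
          rw [wt_rho hra] at hws
          rw [wt_rho hq] at hws'
          rcases wt_eq hs hs' (hws.trans hws'.symm) with h3 | h3
          · rwa [h3]
          · rw [h3]; exact hstab _ h2
      refine ⟨key, ?_⟩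
      obtain ⟨hs, hws, -⟩ := sum_spec hra hap e
      obtain ⟨hs', hws', -⟩ := sum_spec hap hra e'
      rcases wt_eq hs hs' (by rw [hws, hws']; ring) with h3 | h3
      · rwa [h3]
      · rw [h3]; exact hstab _ key
    rcases hx with hx | rfl <;> rcases hy with hy | rfl
    · exact hC x y hx hy e
    · exact (hfix x hx e).1
    · refine (hfix y hy ?_).2
      rw [← e]
      refine std_facts.symm y x (hpos y hy) ?_
      rcases ha with rfl | rfl <;> assumption
    · rw [std_facts.self] at e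
      · omega
      · rcases ha with rfl | rfl <;> assumption
  have hpos2 : ∀ {a}, (a = q ∨ a = ρ q) → ∀ r, (P' r ∨ r = a) → chevE6.IsPosRoot r := by
    rintro a ha r (hr | rfl)
    · exact hpos r hr
    · rcases ha with rfl | rfl <;> assumption
  obtain ⟨z, u, hu, rfl⟩ := split_one hq (P := P) (P' := fun r => P' r ∨ r = ρ q)
    (fun r hr => by rcases hP r hr with h | h | h; exacts [.inl h, .inr (.inr h), .inr (.inl h)])
    (hpos2 (.inr rfl)) (fun r hr e => .inl (hup r hr e)) hw
  obtain ⟨z', v, hv, rfl⟩ := split_one hqq (P := fun r => P' r ∨ r = ρ q) (P' := P')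
    (fun r hr => hr.symm) hpos (fun r hr e => by
      rcases hC2 (.inr rfl) r (ρ q) (.inl hr) (.inr rfl) e with h | h
      · exact h
      · obtain ⟨-, hws, -⟩ := sum_spec (hpos r hr) hqq e
        rw [h] at hws
        have := wt_pos (hpos r hr)
        omega) hu
  obtain ⟨v', hv', hvm⟩ := (E62.tw σ).maps_UP (P := P') (Q := P') (fun r hr => (hpos r hr).1)
    (fun r hr => hstab r hr) hv
  have himg : (E62.tw σ).Maps (X q z * (X (ρ q) z' * v)) (X (ρ q) (σ z) * (X q (σ z') * v')) := by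
    have h2 := maps_X (σ := σ) hqq.1 z'
    rw [(rho_spec hq.1).2.1] at h2
    exact Twist.Maps.mul _ (maps_X (σ := σ) hq.1 z) (Twist.Maps.mul _ h2 hvm)
  have e := Twist.Maps.fun_eq _ himg hf
  have hcomm : ∀ a b : K, X q a * X (ρ q) b = X (ρ q) b * X q a := fun a b => (comm_pair hq a b).eq
  by_cases hρ : ρ q = q
  · rw [hρ] at e hf ⊢
    have e1 : X q (σ z + σ z') * v' = X q (z + z') * v := by
      rw [← xG_add, ← xG_add, mul_assoc, mul_assoc]; exact e
    have e2 : X q (σ (z + z') + (z + z')) ∈ UP K stdE6.good P' := by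
      have : X q (σ (z + z') + (z + z')) = v * v'⁻¹ := by
        rw [add_comm, ← xG_add, map_add]
        have h3 : X q (σ z + σ z') = X q (z + z') * v * v'⁻¹ := by rw [← e1]; group
        rw [h3, ← mul_assoc, ← mul_assoc, xG_add, CharTwo.add_self_eq_zero, xG_zero, one_mul]
      rw [this]
      exact mul_mem hv (inv_mem hv')
    have h0 := outside stdE6 std_facts hpos hC hq hnq e2
    have hs : σ (z + z') = z + z' := CharTwo.add_eq_zero.1 h0
    refine ⟨z + z', fun _ => hs, v, hv, ?_, ?_⟩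
    · rw [← mul_assoc, xG_add] at hf
      have := mul_mem (inv_mem (Ob_fix hinv hq (σ := σ) (c := z + z') fun _ => hs)) hf
      rwa [Ob, if_pos hρ, inv_mul_cancel_left] at this
    · rw [Ob, if_pos hρ, ← xG_add, mul_assoc]
  · have h1 : X q (σ z' + z) * X (ρ q) (σ z + z') ∈ UP K stdE6.good P' := by
      have h3 : X q (σ z') * X (ρ q) (σ z) = X q z * X (ρ q) z' * v * v'⁻¹ := by
        have : X (ρ q) (σ z) * (X q (σ z') * v') * v'⁻¹ = X q z * (X (ρ q) z' * v) * v'⁻¹ := by rw [e]
        rw [hcomm]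
        simpa [mul_assoc] using this
      have h4 : X q (σ z' + z) * X (ρ q) (σ z + z') = v * v'⁻¹ := by
        rw [add_comm (σ z') z, add_comm (σ z) z', ← xG_add, ← xG_add, mul_assoc,
          ← mul_assoc (X q (σ z')), hcomm (σ z') z', mul_assoc (X (ρ q) z'), h3]
        simp only [← mul_assoc]
        rw [mul_assoc (X q z), mul_assoc (X q z) , ← hcomm z z', ← mul_assoc, ← mul_assoc, xG_add,
          CharTwo.add_self_eq_zero, xG_zero, one_mul, xG_add, CharTwo.add_self_eq_zero, xG_zero, one_mul]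
      rw [h4]
      exact mul_mem hv (inv_mem hv')
    have ha : σ z' + z = 0 := by
      refine outside stdE6 std_facts (hpos2 (.inr rfl)) (hC2 (.inr rfl)) hq ?_ (c := σ z' + z) ?_
      · rintro (h | h)
        · exact hnq h
        · exact hρ h.symm
      · have := mul_mem (UP_mono stdE6 (fun r hr => Or.inl hr) h1)
          (inv_mem (xG_mem_UP stdE6.good (P := fun r => P' r ∨ r = ρ q) (Or.inr rfl) (σ z + z')))
        rwa [mul_inv_cancel_right] at this
    have hz : z' = σ z := by
      rw [CharTwo.add_eq_zero] at ha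
      rw [← ha, hinv]
    subst hz
    refine ⟨z, fun h => absurd h hρ, v, hv, ?_, ?_⟩
    · rw [← mul_assoc] at hf
      have := mul_mem (inv_mem (Ob_fix hinv hq (σ := σ) (c := z) fun h => absurd h hρ)) hf
      rwa [Ob, if_neg hρ, inv_mul_cancel_left] at this
    · rw [Ob, if_neg hρ, mul_assoc]

end CfsgLib.Chev.E62Invol
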