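/-
Rank certificate for the third class of involutions of twisted E6.
-/
import Cfsg.Agent.Lib.Chev.SLInvol.Rank
import Cfsg.Agent.Lib.Chev.Types

set_option autoImplicit false
set_option maxRecDepth 100000
set_option maxHeartbeats 4000000

namespace CfsgLib.Chev.E62Invol

open Cfsg.Lie CfsgLib.Chev CfsgLib.Chev.SLInv

/-- certificate for the product over three roots -/
def cert3 : Cert where
  r := 38
  cols := [0x20008000000000000, 0x20020008000000000000, 0x8000000000000,
    0, 0x20000000000000000, 0x20008000000000000,
    0x20000000000000000029, 0x8100410000040802000, 0x10401020000082008000,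
    0x2040000000010000, 0x1000080000008000000, 0x2000100000010000000,
    0x200000000000000, 0x8000400000040000000, 0x800000000000000,
    0x10001000000080000000, 0x2000000000000000, 0x4020000200000,
    0x2000000000000001d, 0x80000000000, 0x400000000000,
    0x4000000000000, 0x4080000000020000000, 0x8100000000040000000,
    0x200000000000000000, 0x10400000000080000000, 0x800000000000000000,
    0x1000000000000000000, 0x2000000000000000000, 0x4000000000000000000,
    0x8000000000000000000, 0x10000000000000000000, 0x800000000003c,
    0x44000040000000000, 0x100000000000, 0x800000000000,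
    0x1000000000000, 0x8000000000000000, 0,
    0x2000000000000, 0x10000000000000000, 0x4000000000000,
    0x40000000000000000, 0, 0,
    0, 0, 0,
    0, 0, 0,
    0, 0x8100400000000000000, 0x10401000000000000000,
    0x2000000000000000, 0x1000000000000000000, 0x2000000000000000000,
    0, 0x8000000000000000000, 0,
    0x10000000000000000000, 0, 0x40000000000000000,
    0, 0, 0,
    0, 0x4000000000000000000, 0x8000000000000000000,
    0, 0x10000000000000000000, 0,
    0, 0, 0,
    0, 0, 0]
  piv := [0, 1, 2, 6, 7, 8, 9, 10,
    11, 12, 13, 14, 15, 16, 17, 18,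
    19, 20, 21, 22, 23, 24, 25, 26,
    27, 28, 29, 30, 31, 32, 33, 34,
    35, 36, 37, 39, 40, 42]
  rows := [0x8008, 0, 0x20008000,
    0x20008008, 0x20008000, 0x20000008,
    0, 0, 0,
    0, 0, 0,
    0, 0x10, 0,
    0x20, 0x40, 0,
    0, 0, 0,
    0x4000, 0, 0x10,
    0, 0x20, 0,
    0x80, 0x100, 0x80000,
    0x100410, 0x401020, 0,
    0, 0, 0,
    0, 0, 0,
    0, 0, 0x4000,
    0x40000000, 0x10000, 0x80000000,
    0, 0x20000, 0x100000000,
    0x200000000, 0x800000000, 0x44000,
    0x20000007, 0x10, 0x20,
    0x40, 0x80, 0x100,
    0x200, 0x410, 0x800,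
    0x1020, 0x2040, 0x40000000,
    0x400000000, 0x1000000000, 0x8003,
    0x2040000000, 0x80000, 0x100010,
    0x200000, 0x400020, 0x800000,
    0x1000080, 0x2000100, 0x4080000,
    0x8100410, 0x10401020, 0xa]
  sel := [1, 2, 4,
    0, 5, 1,
    8, 0x10, 0x20,
    0x40, 0x80, 0x100,
    0x200, 0x400, 0x800,
    0x1000, 0x2000, 0x4000,
    0x8000, 0x10000, 0x20000,
    0x40000, 0x80000, 0x100000,
    0x200000, 0x400000, 0x800000,
    0x1000000, 0x2000000, 0x4000000,
    0x8000000, 0x10000000, 0x20000000,
    0x40000000, 0x80000000, 0x100000000,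
    0x200000000, 0x400000000, 0,
    0x800000000, 0x1000000000, 0x40000,
    0x2000000000, 0, 0,
    0, 0, 0,
    0, 0, 0,
    0, 0x8100400, 0x10401000,
    0x2000, 0x1000000, 0x2000000,
    0, 0x8000000, 0,
    0x10000000, 0, 0x2000000000,
    0, 0, 0,
    0, 0x4000000, 0x8000000,
    0, 0x10000000, 0,
    0, 0, 0,
    0, 0, 0]
  linv := [0x20020000000000000001, 0x2000000000000000000c, 0x20008000000000004,
    0xc, 0x2000, 0x8000,
    0x10000, 0x8000000, 0x10000000,
    0x200000000000000, 0x400000000002000, 0x800000000000000,
    0x1000000000008000, 0x2000000000010000, 0x200000,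
    0xd, 0x80000000000, 0x400000000000,
    0x4000000200000, 0x20000000, 0x400000040000000,
    0x200000000000000000, 0x1000000080000000, 0x800000000000000000,
    0x1000000000008000000, 0x2000000000010000000, 0x4000000000020000000,
    0x8000000000040000000, 0x10000000000080000000, 9,
    0x40000000000, 0x100000000000, 0x800000000000,
    0x1000000000000, 0x8000000000000000, 0x2000000000000,
    0x10000000000000000, 0x40000040000000000]

theorem cert3_ok : certB chevE6 auxE6 [71, 59, 45] cert3 = true := by decide +kernel

end CfsgLib.Chev.E62Invol
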