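/-
Every fixed involution of the unipotent subgroup is conjugate to a product of orthogonal orbit elements.
-/
import Cfsg.Agent.Lib.Chev.E62Invol.Basic

set_option autoImplicit false
set_option maxRecDepth 100000
set_option maxHeartbeats 1000000

namespace CfsgLib.Chev.E62Invol

open Cfsg.Lie Matrix CfsgLib.Chev CfsgLib.Chev.SLInv

variable {K : Type*} [Field K] [CharP K 2] {σ : K →+* K}

local notation "X" => xG (Std.good stdE6)
local notation "U" => UP K (Std.good stdE6)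

/-- the difference of two roots -/
noncomputable def dif (q k : ℕ) : ℕ := sumI auxE6 q (auxE6.neg k)

/-- facts for removing a root meeting the leading one positively -/
noncomputable def killB (k q : ℕ) : Bool :=
  posB chevE6 auxE6 (dif q k) && decide (dif q k < chevE6.nroots) && decide (ipE k (dif q k) = -1) &&
    decide (sumI auxE6 k (dif q k) = q) && decide (wt (dif q k) + wt k = wt q) &&
    decide (ipE (ρ k) (dif q k) = ipE (ρ k) q - ipE (ρ k) k) &&
    decide (ρ (sumI auxE6 k (dif q k)) = sumI auxE6 (ρ k) (ρ (dif q k))) &&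
    (decide (ρ k ≠ k) || decide (ρ (dif q k) = dif q k) == decide (ρ q = q))

/-- facts for a root meeting the leading one negatively -/
noncomputable def negB (k q : ℕ) : Bool :=
  decide (ρ (sumI auxE6 q (ρ k)) = sumI auxE6 (ρ q) k) && decide (ρ (sumI auxE6 q k) = sumI auxE6 (ρ q) (ρ k))

/-- the possible positions of an orbit against the leading one -/
noncomputable def caseB (k q : ℕ) : Bool :=
  let a := ipE k q
  let b := ipE (ρ k) q
  bif decide (ρ k = k) then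
    (decide (a = 1) && killB k q) || (decide (a = -1) && negB k q) || decide (a = 0)
  else
    (decide (a = 1) && decide (b = 0) && decide (ρ q ≠ q) && decide (ρ (dif q k) ≠ dif q k) && killB k q) ||
    (decide (a = 1) && decide (b = 1) && decide (ρ q = q) && decide (ρ (dif q k) ≠ dif q k) && killB k q) ||
    (decide (a = 1) && decide (b = -1) && decide (ρ q ≠ q) && decide (ρ (dif q k) = dif q k) && killB k q &&
      negB k q && decide (ρ (sumI auxE6 q (ρ k)) = sumI auxE6 q (ρ k))) ||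
    (decide (a = 0) && decide (b = -1) && decide (ρ q ≠ q) && negB k q) ||
    (decide (a = -1) && decide (b = -1) && decide (ρ q = q) && negB k q) ||
    (decide (a = 0) && decide (b = 1)) || (decide (a = -1) && decide (b = 1)) ||
    (decide (a = -1) && decide (b = 0)) || (decide (a = 0) && decide (b = 0))

lemma case_table : (chevE6.posRoots.all fun k => chevE6.posRoots.all fun q =>
    !decide (wt k < wt q) || caseB k q) = true := by decide +kernel

lemma case_spec {k q : ℕ} (hk : chevE6.IsPosRoot k) (hq : chevE6.IsPosRoot q) (h : wt k < wt q) :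
    caseB k q = true := by
  have := List.all_eq_true.1 (List.all_eq_true.1 case_table k (pos_list hk)) q (pos_list hq)
  simpa [h] using this

lemma perp_rho {O : List ℕ} (hO : ∀ o ∈ O, chevE6.IsPosRoot o) (hs : ∀ o ∈ O, ρ o ∈ O) {r : ℕ}
    (hr : Perp chevE6 auxE6 O r) : Perp chevE6 auxE6 O (ρ r) :=
  ⟨rho_pos hr.1, fun o ho => by rw [← ip_rho_left (hO o ho) hr.1]; exact hr.2 _ (hs o ho)⟩

lemma perp_sum {O : List ℕ} (hO : ∀ o ∈ O, chevE6.IsPosRoot o) {a b : ℕ} (ha : Perp chevE6 auxE6 O a)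
    (hb : Perp chevE6 auxE6 O b) (e : ipE a b = -1) : Perp chevE6 auxE6 O (sumI auxE6 a b) :=
  perp_closed stdE6 std_facts O hO a b ha hb e

/-- orthogonal to both roots of an orbit -/
def Both (k r : ℕ) : Prop := ipE k r = 0 ∧ ipE (ρ k) r = 0

/-- the roots still allowed -/
def S (O : List ℕ) (k : ℕ) (n : ℤ) (r : ℕ) : Prop :=
  Perp chevE6 auxE6 O r ∧ wt k < wt r ∧ (Both k r ∨ n ≤ wt r)

/-- the target of squares -/
def B (k : ℕ) (n : ℤ) (r : ℕ) : Prop := chevE6.IsPosRoot r ∧ wt k < wt r ∧ (Both k r ∨ wt k + n < wt r)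

lemma both_rho {k r : ℕ} (hk : chevE6.IsPosRoot k) (hr : chevE6.IsPosRoot r) (h : Both k r) : Both k (ρ r) :=
  ⟨by rw [← ip_rho_left hk hr]; exact h.2,
    by rw [ip_rho hk hr]; exact h.1⟩

lemma both_sum {k a b : ℕ} (ha : chevE6.IsPosRoot a) (hb : chevE6.IsPosRoot b) (e : ipE a b = -1)
    (h1 : Both k a) (h2 : Both k b) : Both k (sumI auxE6 a b) := by
  obtain ⟨-, -, hl⟩ := sum_spec ha hb e
  exact ⟨by rw [hl, h1.1, h2.1, add_zero], by rw [hl, h1.2, h2.2, add_zero]⟩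

section closed

variable {O : List ℕ} (hO : ∀ o ∈ O, chevE6.IsPosRoot o) {k : ℕ} (hk : chevE6.IsPosRoot k)

include hO hk

lemma S_closed (n : ℤ) : ClosedP chevE6 auxE6 (S O k n) := by
  intro a b ha hb e
  obtain ⟨hu, hw, -⟩ := sum_spec ha.1.1 hb.1.1 e
  have := wt_pos ha.1.1
  refine ⟨perp_sum hO ha.1 hb.1 e, by have := hb.2.1; omega, ?_⟩
  rcases ha.2.2 with h1 | h1
  · rcases hb.2.2 with h2 | h2
    · exact .inl (both_sum ha.1.1 hb.1.1 e h1 h2)
    · exact .inr (by omega)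
  · have := wt_pos hb.1.1
    exact .inr (by omega)

omit hO in
lemma S_sum_B {n : ℤ} (hn : wt k < n) {a b : ℕ} (ha : S O k n a) (hb : S O k n b) (e : ipE a b = -1) :
    B k n (sumI auxE6 a b) := by
  obtain ⟨hu, hw, -⟩ := sum_spec ha.1.1 hb.1.1 e
  have := ha.2.1
  have := hb.2.1
  refine ⟨hu, by have := wt_pos ha.1.1; omega, ?_⟩
  rcases ha.2.2 with h1 | h1
  · rcases hb.2.2 with h2 | h2
    · exact .inl (both_sum ha.1.1 hb.1.1 e h1 h2)
    · exact .inr (by omega)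
  · exact .inr (by omega)

omit hO in
lemma B_sum_S {n : ℤ} (hn : wt k < n) {a b : ℕ} (ha : B k n a) (hb : S O k n b) (e : ipE a b = -1) :
    B k n (sumI auxE6 a b) := by
  obtain ⟨hu, hw, -⟩ := sum_spec ha.1 hb.1.1 e
  have := wt_pos ha.1
  have := wt_pos hb.1.1
  have := ha.2.1
  refine ⟨hu, by omega, ?_⟩
  rcases ha.2.2 with h1 | h1
  · rcases hb.2.2 with h2 | h2
    · exact .inl (both_sum ha.1 hb.1.1 e h1 h2)
    · exact .inr (by omega)
  · exact .inr (by omega)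

end closed

/-- congruence modulo a subgroup -/
def Eqv (P : ℕ → Prop) (a b : GL chevE6.Idx K) : Prop := a⁻¹ * b ∈ U P

lemma Eqv.refl (P : ℕ → Prop) (a : GL chevE6.Idx K) : Eqv P a a := by simp [Eqv]

lemma Eqv.trans {P : ℕ → Prop} {a b c : GL chevE6.Idx K} (h : Eqv P a b) (h' : Eqv P b c) : Eqv P a c := by
  have := mul_mem h h'
  rwa [show a⁻¹ * b * (b⁻¹ * c) = a⁻¹ * c by group] at this

/-- conjugation of an element of a normalising set -/
lemma conj_mem {P : ℕ → Prop} {t : ℕ} (ht : chevE6.IsPosRoot t) (hpos : ∀ r, P r → chevE6.IsPosRoot r)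
    (hn : ∀ r, P r → ipE r t = -1 → P (sumI auxE6 r t)) (d : K) {y : GL chevE6.Idx K} (hy : y ∈ U P) :
    X t d * y * (X t d)⁻¹ ∈ U P := by
  suffices U P ≤ (U P).comap (MulAut.conj (X t d)).toMonoidHom from this hy
  refine UP_le fun r u hr => ?_
  show X t d * X r u * (X t d)⁻¹ ∈ U P
  have := conj_mod ht (hpos r hr) (hn r hr) d u
  simpa using mul_mem (xG_mem_UP stdE6.good hr u) this

lemma conj_mem' {P Q : ℕ → Prop} (hQ : ∀ r, Q r → chevE6.IsPosRoot r) (hpos : ∀ r, P r → chevE6.IsPosRoot r)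
    (hn : ∀ r, P r → ∀ t, Q t → ipE r t = -1 → P (sumI auxE6 r t)) {g : GL chevE6.Idx K} (hg : g ∈ U Q)
    {y : GL chevE6.Idx K} (hy : y ∈ U P) : g * y * g⁻¹ ∈ U P := by
  induction hg using Subgroup.closure_induction'' generalizing y with
  | one => simpa using hy
  | mul a b _ _ ha hb =>
    have := ha (hb hy)
    rwa [show a * (b * y * b⁻¹) * a⁻¹ = a * b * y * (a * b)⁻¹ by group] at this
  | mem a ha =>
    obtain ⟨t, d, ht, rfl⟩ := ha
    exact conj_mem (hQ t ht) hpos (fun r hr => hn r hr t ht) d hy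
  | inv_mem a ha =>
    obtain ⟨t, d, ht, rfl⟩ := ha
    rw [xG_inv]
    exact conj_mem (hQ t ht) hpos (fun r hr => hn r hr t ht) (-d) hy

/-- conjugation moves the elements of a subgroup only modulo a normal one -/
lemma conj_eqv {P Q : ℕ → Prop} (g : GL chevE6.Idx K)
    (hgen : ∀ r, P r → ∀ u : K, Eqv Q (X r u) (g * X r u * g⁻¹))
    (hnorm : ∀ p ∈ U P, ∀ y ∈ U Q, p * y * p⁻¹ ∈ U Q) {w : GL chevE6.Idx K} (hw : w ∈ U P) :
    Eqv Q w (g * w * g⁻¹) := by
  induction hw using Subgroup.closure_induction with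
  | one => simp [Eqv]
  | mem a ha =>
    obtain ⟨r, u, hr, rfl⟩ := ha
    exact hgen r hr u
  | mul a b _ hbm iha ihb =>
    have := mul_mem (hnorm b⁻¹ (inv_mem hbm) _ iha) ihb
    simp only [Eqv, inv_inv] at this ⊢
    rwa [show b⁻¹ * (a⁻¹ * (g * a * g⁻¹)) * b * (b⁻¹ * (g * b * g⁻¹)) = (a * b)⁻¹ * (g * (a * b) * g⁻¹) by group]
      at this
  | inv a ham iha =>
    have := hnorm a ham _ (inv_mem iha)
    simp only [Eqv] at this ⊢
    rwa [show a * (a⁻¹ * (g * a * g⁻¹))⁻¹ * a⁻¹ = a⁻¹⁻¹ * (g * a⁻¹ * g⁻¹) by group] at this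

lemma conj_hit {t r u : ℕ} (ht : chevE6.IsPosRoot t) (hr : chevE6.IsPosRoot r) (e : ipE r t = -1)
    (hu : sumI auxE6 r t = u) (d z : K) : X t d * X r z * (X t d)⁻¹ = X r z * X u (z * d) := by
  rw [conj_root stdE6 std_facts ht hr, if_pos (by rw [← e]; exact std_facts.symm t r ht hr), hu]

lemma conj_miss {t r : ℕ} (ht : chevE6.IsPosRoot t) (hr : chevE6.IsPosRoot r) (e : ipE r t ≠ -1)
    (d z : K) : X t d * X r z * (X t d)⁻¹ = X r z := by
  rw [conj_root stdE6 std_facts ht hr, if_neg (by rw [← std_facts.symm r t hr ht]; exact e)]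

/-- hypotheses common to one step -/
structure Step (σ : K →+* K) (O : List ℕ) (k q : ℕ) (c : K) : Prop where
  hO : ∀ o ∈ O, chevE6.IsPosRoot o
  hOs : ∀ o ∈ O, ρ o ∈ O
  hinv : ∀ a, σ (σ a) = a
  tr : ∃ e : K, e + σ e = 1
  hk : Perp chevE6 auxE6 O k
  hc : c ≠ 0
  hcf : Coef σ k c
  hq : Perp chevE6 auxE6 O q
  hlt : wt k < wt q

variable {O : List ℕ} {k q : ℕ} {c : K}

/-- the roots above the current orbit -/
abbrev S' (O : List ℕ) (k q : ℕ) : ℕ → Prop := S O k (wt q + 1)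

namespace Step

variable (h : Step σ O k q c)

include h

lemma kill_facts (e : killB k q = true) : Perp chevE6 auxE6 O (dif q k) ∧ ipE k (dif q k) = -1 ∧
    sumI auxE6 k (dif q k) = q ∧ wt (dif q k) + wt k = wt q ∧
    ipE (ρ k) (dif q k) = ipE (ρ k) q - ipE (ρ k) k ∧ sumI auxE6 (ρ k) (ρ (dif q k)) = ρ q ∧
    (ρ k = k → (ρ (dif q k) = dif q k ↔ ρ q = q)) := by
  simp only [killB, Bool.and_eq_true, decide_eq_true_eq, Bool.or_eq_true, beq_iff_eq, decide_eq_decide] at e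
  obtain ⟨⟨⟨⟨⟨⟨⟨e1, e2⟩, e3⟩, e4⟩, e5⟩, e6⟩, e7⟩, e8⟩ := e
  have htp := (posB_iff stdE6.good e2).1 e1
  refine ⟨⟨htp, fun o ho => ?_⟩, e3, e4, e5, e6, by rw [← e7, e4], fun hk => e8.resolve_left (absurd hk)⟩
  obtain ⟨-, -, hl⟩ := sum_spec h.hk.1 htp e3
  have := hl o
  rw [e4, h.hq.2 o ho, h.hk.2 o ho] at this
  omega

lemma above {r : ℕ} (hr : Perp chevE6 auxE6 O r) (hw : wt q < wt r) : S' O k q r :=
  ⟨hr, by have := h.hlt; omega, .inr (by omega)⟩

lemma S'_stable {r : ℕ} (hr : S' O k q r) : S' O k q (ρ r) := by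
  refine ⟨perp_rho h.hO h.hOs hr.1, by rw [wt_rho hr.1.1]; exact hr.2.1, ?_⟩
  exact hr.2.2.imp (both_rho h.hk.1 hr.1.1) fun e => by rw [wt_rho hr.1.1]; exact e

lemma S_norm {p : GL chevE6.Idx K} (hp : p ∈ U (S O k (wt q))) {y : GL chevE6.Idx K}
    (hy : y ∈ U (S' O k q)) : p * y * p⁻¹ ∈ U (S' O k q) := by
  refine conj_mem' (fun r hr => hr.1.1) (fun r hr => hr.1.1) (fun r hr t ht e => ?_) hp hy
  obtain ⟨hu, hw, -⟩ := sum_spec hr.1.1 ht.1.1 e
  have := wt_pos hr.1.1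
  refine ⟨perp_sum h.hO hr.1 ht.1 e, by have := ht.2.1; omega, ?_⟩
  rcases hr.2.2 with h1 | h1
  · rcases ht.2.2 with h2 | h2
    · exact .inl (both_sum hr.1.1 ht.1.1 e h1 h2)
    · exact .inr (by omega)
  · have := wt_pos ht.1.1
    exact .inr (by omega)

/-- a root element of weight `wt q - wt k` moves the allowed part only upwards -/
lemma low_gen {t : ℕ} (ht : Perp chevE6 auxE6 O t) (hwt : wt t + wt k = wt q) (d : K) (r : ℕ)
    (hr : S O k (wt q) r) (u : K) : Eqv (S' O k q) (X r u) (X t d * X r u * (X t d)⁻¹) :=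
  conj_mod ht.1 hr.1.1 (fun e => h.above (perp_sum h.hO hr.1 ht e) (by
    obtain ⟨-, hw, -⟩ := sum_spec hr.1.1 ht.1 e
    have := hr.2.1
    omega)) d u

lemma low_ob {t : ℕ} (ht : Perp chevE6 auxE6 O t) (hwt : wt t + wt k = wt q) (d : K) :
    ∀ w ∈ U (S O k (wt q)), Eqv (S' O k q) w (Ob σ t d * w * (Ob σ t d)⁻¹) := by
  intro w hw
  have h1 := fun d => conj_eqv (X t d) (h.low_gen ht hwt d) (fun p hp y hy => h.S_norm hp hy) hw
  unfold Ob
  split_ifs
  · exact h1 d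
  · have h2 := conj_eqv (X (ρ t) (σ d)) (h.low_gen (perp_rho h.hO h.hOs ht) (by rw [wt_rho ht.1]; exact hwt) (σ d))
      (fun p hp y hy => h.S_norm hp hy) hw
    refine (h1 d).trans ?_
    have h3 : X t d * (w⁻¹ * (X (ρ t) (σ d) * w * (X (ρ t) (σ d))⁻¹)) * (X t d)⁻¹ ∈ U (S' O k q) := by
      refine conj_mem ht.1 (fun r hr => hr.1.1) (fun r hr e => ?_) d h2
      refine h.above (perp_sum h.hO hr.1 ht e) ?_
      obtain ⟨-, hw, -⟩ := sum_spec hr.1.1 ht.1 e
      have := hr.2.1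
      omega
    unfold Eqv
    rwa [show (X t d * w * (X t d)⁻¹)⁻¹ * (X t d * X (ρ t) (σ d) * w * (X t d * X (ρ t) (σ d))⁻¹) =
      X t d * (w⁻¹ * (X (ρ t) (σ d) * w * (X (ρ t) (σ d))⁻¹)) * (X t d)⁻¹ by group]

lemma q_mem : S O k (wt q) q ∧ S O k (wt q) (ρ q) :=
  ⟨⟨h.hq, h.hlt, .inr le_rfl⟩, perp_rho h.hO h.hOs h.hq, by rw [wt_rho h.hq.1]; exact h.hlt,
    .inr (by rw [wt_rho h.hq.1])⟩

/-- removal of the orbit by a lower orbit element -/
lemma remove {t : ℕ} (ht : Perp chevE6 auxE6 O t) (hwt : wt t + wt k = wt q) {z d : K} (hd : Coef σ t d)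
    (hz : Coef σ q z) (hx : Eqv (S' O k q) (Ob σ k c * Ob σ q z) (Ob σ t d * Ob σ k c * (Ob σ t d)⁻¹))
    {v : GL chevE6.Idx K} (hv : v ∈ U (S' O k q)) (hvf : v ∈ (E62.tw σ).fix) :
    ∃ g ∈ (E62.tw σ).fix, g ∈ U (Perp chevE6 auxE6 O) ∧ ∃ w' ∈ U (S' O k q), w' ∈ (E62.tw σ).fix ∧
      g * (Ob σ k c * (Ob σ q z * v)) * g⁻¹ = Ob σ k c * w' := by
  have hg := Ob_fix h.hinv ht.1 hd
  have hqz : Ob σ q z ∈ U (S O k (wt q)) := Ob_mem h.q_mem.1 h.q_mem.2 z
  have hw : Ob σ q z * v ∈ U (S O k (wt q)) := mul_mem hqz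
    (UP_mono stdE6 (fun r hr => ⟨hr.1, hr.2.1, hr.2.2.imp_right (by omega)⟩) hv)
  refine ⟨_, hg, Ob_mem ht (perp_rho h.hO h.hOs ht) d,
    (Ob σ k c)⁻¹ * (Ob σ t d * (Ob σ k c * (Ob σ q z * v)) * (Ob σ t d)⁻¹), ?_, ?_, by group⟩
  · have h1 := h.low_ob ht hwt d _ hw
    set g := Ob σ t d
    set w := Ob σ q z * v
    set s := (Ob σ k c * Ob σ q z)⁻¹ * (g * Ob σ k c * g⁻¹) with hsdef
    have hs : s ∈ U (S' O k q) := hx
    have h2 : g * w * g⁻¹ = Ob σ q z * v * (w⁻¹ * (g * w * g⁻¹)) := by simp only [w]; group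
    rw [show (Ob σ k c)⁻¹ * (g * (Ob σ k c * w) * g⁻¹) =
      Ob σ q z * s * (g * w * g⁻¹) by simp only [hsdef]; group, h2,
      show Ob σ q z * s * (Ob σ q z * v * (w⁻¹ * (g * w * g⁻¹))) =
        (Ob σ q z * s * Ob σ q z) * v * (w⁻¹ * (g * w * g⁻¹)) by simp only [mul_assoc]]
    refine mul_mem (mul_mem ?_ hv) h1
    have h3 := h.S_norm hqz hs
    rwa [Ob_inv h.hq.1] at h3
  · exact mul_mem (inv_mem (Ob_fix h.hinv h.hk.1 h.hcf)) (mul_mem (mul_mem hg
      (mul_mem (Ob_fix h.hinv h.hk.1 h.hcf) (mul_mem (Ob_fix h.hinv h.hq.1 hz) hvf))) (inv_mem hg))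

/-- the coefficient of the trace element -/
lemma kill_pos {z : K} (hz : Coef σ q z) (e : killB k q = true)
    (hcase : ρ k = k ∨ (ipE (ρ k) q = 0 ∧ ρ q ≠ q ∧ ρ (dif q k) ≠ dif q k) ∨
      (ipE (ρ k) q = 1 ∧ ρ q = q ∧ ρ (dif q k) ≠ dif q k) ∨
      (ipE (ρ k) q = -1 ∧ ρ q ≠ q ∧ ρ (dif q k) = dif q k ∧ σ (z / c) = z / c)) :
    ∃ d, Coef σ (dif q k) d ∧
      Eqv (S' O k q) (Ob σ k c * Ob σ q z) (Ob σ (dif q k) d * Ob σ k c * (Ob σ (dif q k) d)⁻¹) := by
  obtain ⟨ht, hkt, hsum, hw, hk't, hsum', hfx⟩ := h.kill_facts e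
  set t := dif q k
  have hk := h.hk.1
  have hk' := rho_pos hk
  have ht' := rho_pos ht.1
  have hc := h.hc
  have hkt' : ipE k (ρ t) = ipE (ρ k) t := by rw [← ip_rho_left hk ht.1]
  have hk't' : ipE (ρ k) (ρ t) = -1 := by rw [ip_rho hk ht.1]; exact hkt
  rcases hcase with hkf | ⟨hb, hqf, htf⟩ | ⟨hb, hqf, htf⟩ | ⟨hb, hqf, htf, hzc⟩
  · have hcc := h.hcf hkf
    by_cases hqf : ρ q = q
    · have htf := (hfx hkf).2 hqf
      refine ⟨z / c, fun _ => by rw [map_div₀, hz hqf, hcc], ?_⟩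
      simp only [Ob, if_pos hkf, if_pos hqf, if_pos htf]
      rw [conj_hit ht.1 hk hkt hsum, mul_div_cancel₀ z hc]
      exact Eqv.refl _ _
    · have htf : ρ t ≠ t := fun e => hqf ((hfx hkf).1 e)
      refine ⟨z / c, fun e => absurd e htf, ?_⟩
      simp only [Ob, if_pos hkf, if_neg hqf, if_neg htf]
      rw [hkf] at hsum'
      have e1 := conj_hit ht' hk (by rw [hkt', hkf, hkt]) hsum' (σ (z / c)) c
      rw [map_div₀, hcc, mul_div_cancel₀ _ hc] at e1
      have e2 := conj_hit ht.1 hk hkt hsum (z / c) c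
      rw [mul_div_cancel₀ z hc] at e2
      have e3 := h.low_gen ht hw (z / c) (ρ q) h.q_mem.2 (σ z)
      unfold Eqv at e3 ⊢
      rw [map_div₀, hcc]
      rw [show X t (z / c) * X (ρ t) (σ z / c) * X k c * (X t (z / c) * X (ρ t) (σ z / c))⁻¹ =
        X t (z / c) * (X (ρ t) (σ z / c) * X k c * (X (ρ t) (σ z / c))⁻¹) * (X t (z / c))⁻¹ by group, e1,
        ← conj_mul, e2]
      simpa [mul_assoc] using e3
  · refine ⟨z / c, fun e => absurd e htf, ?_⟩
    have hkf : ρ k ≠ k := fun e => by rw [e] at hb hk't; have := std_facts.self k hk; omega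
    have hb' : ipE (ρ k) t = 0 := by rw [hk't, hb, std_facts.symm _ _ hk' hk, pair_ip hk hkf, sub_zero]
    simp only [Ob, if_neg hkf, if_neg hqf, if_neg htf]
    have a1 := conj_miss ht' hk (by rw [hkt', hb']; decide) (σ (z / c)) c
    have a2 := conj_hit ht' hk' hk't' hsum' (σ (z / c)) (σ c)
    rw [← map_mul, mul_div_cancel₀ z hc] at a2
    have b1 := conj_hit ht.1 hk hkt hsum (z / c) c
    rw [mul_div_cancel₀ z hc] at b1
    have b2 := conj_miss ht.1 hk' (by rw [hb']; decide) (z / c) (σ c)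
    have e3 := h.low_gen ht hw (z / c) (ρ q) h.q_mem.2 (σ z)
    unfold Eqv at e3 ⊢
    rw [show X t (z / c) * X (ρ t) (σ (z / c)) * (X k c * X (ρ k) (σ c)) * (X t (z / c) * X (ρ t) (σ (z / c)))⁻¹ =
      X t (z / c) * ((X (ρ t) (σ (z / c)) * X k c * (X (ρ t) (σ (z / c)))⁻¹) *
        (X (ρ t) (σ (z / c)) * X (ρ k) (σ c) * (X (ρ t) (σ (z / c)))⁻¹)) * (X t (z / c))⁻¹ by group,
      a1, a2, ← conj_mul, ← conj_mul, b1, b2]
    have hc1 : Commute (X q z) (X (ρ k) (σ c)) := commute_perp stdE6 std_facts h.hq.1 hk'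
      (by rw [std_facts.symm _ _ h.hq.1 hk', hb]; decide) _ _
    rw [show X k c * X q z * (X (ρ k) (σ c) * (X t (z / c) * X (ρ q) (σ z) * (X t (z / c))⁻¹)) =
      X k c * (X q z * X (ρ k) (σ c)) * (X t (z / c) * X (ρ q) (σ z) * (X t (z / c))⁻¹) by group, hc1.eq]
    convert e3 using 1
    group
  · obtain ⟨e₀, he₀⟩ := h.tr
    refine ⟨z * e₀ / c, fun e => absurd e htf, ?_⟩
    have hkf : ρ k ≠ k := fun e' => by
      rw [e'] at hsum'
      exact htf ((hfx e').2 hqf)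
    have hb' : ipE (ρ k) t = 1 := by rw [hk't, hb, std_facts.symm _ _ hk' hk, pair_ip hk hkf, sub_zero]
    simp only [Ob, if_neg hkf, if_pos hqf, if_neg htf]
    rw [hqf] at hsum'
    set d := z * e₀ / c
    have hcd : c * d = z * e₀ := mul_div_cancel₀ _ hc
    have a1 := conj_miss ht' hk (by rw [hkt', hb']; decide) (σ d) c
    have a2 := conj_hit ht' hk' hk't' hsum' (σ d) (σ c)
    have b1 := conj_hit ht.1 hk hkt hsum d c
    have b2 := conj_miss ht.1 hk' (by rw [hb']; decide) d (σ c)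
    have e3 := h.low_gen ht hw d q h.q_mem.1 (σ c * σ d)
    unfold Eqv at e3 ⊢
    rw [show X t d * X (ρ t) (σ d) * (X k c * X (ρ k) (σ c)) * (X t d * X (ρ t) (σ d))⁻¹ =
      X t d * ((X (ρ t) (σ d) * X k c * (X (ρ t) (σ d))⁻¹) *
        (X (ρ t) (σ d) * X (ρ k) (σ c) * (X (ρ t) (σ d))⁻¹)) * (X t d)⁻¹ by group,
      a1, a2, ← conj_mul, ← conj_mul, b1, b2]
    have hc1 : Commute (X q (c * d)) (X (ρ k) (σ c)) := commute_perp stdE6 std_facts h.hq.1 hk'
      (by rw [std_facts.symm _ _ h.hq.1 hk', hb]; decide) _ _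
    have hz' : c * d + σ c * σ d = z := by
      rw [← map_mul, hcd, map_mul, hz hqf, ← mul_add, he₀, mul_one]
    rw [show X k c * X q (c * d) * (X (ρ k) (σ c) * (X t d * X q (σ c * σ d) * (X t d)⁻¹)) =
      X k c * (X q (c * d) * X (ρ k) (σ c)) * (X t d * X q (σ c * σ d) * (X t d)⁻¹) by group, hc1.eq]
    have : X q z = X q (c * d) * X q (σ c * σ d) := by rw [xG_add, hz']
    rw [this]
    convert e3 using 1
    group
  · refine ⟨z / c, fun _ => hzc, ?_⟩
    have hkf : ρ k ≠ k := fun e => by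
      rw [e] at hb hk't
      have := std_facts.self k hk
      omega
    have hb' : ipE (ρ k) t = -1 := by rw [hk't, hb, std_facts.symm _ _ hk' hk, pair_ip hk hkf, sub_zero]
    simp only [Ob, if_neg hkf, if_neg hqf, if_pos htf]
    rw [htf] at hsum'
    have b1 := conj_hit ht.1 hk hkt hsum (z / c) c
    rw [mul_div_cancel₀ z hc] at b1
    have b2 := conj_hit ht.1 hk' hb' hsum' (z / c) (σ c)
    rw [← hzc, ← map_mul, mul_div_cancel₀ z hc] at b2
    rw [hzc] at b2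
    rw [← conj_mul, b1, b2]
    have e3 : (X (ρ k) (σ c))⁻¹ * X q z * X (ρ k) (σ c) * (X q z)⁻¹ ∈ U (S' O k q) := by
      have := conj_mod (K := K) hk' h.hq.1 (P := S' O k q) (fun e => h.above
        (perp_sum h.hO h.hq (perp_rho h.hO h.hOs h.hk) e) (by
          rw [(sum_spec h.hq.1 hk' e).2.1]
          have := wt_pos hk'
          omega)) (-σ c) z
      rw [← xG_inv, inv_inv] at this
      have h2 := h.S_norm (xG_mem_UP stdE6.good h.q_mem.1 z) this
      rwa [← mul_assoc, mul_inv_cancel, one_mul] at h2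
    unfold Eqv
    have h3 := h.S_norm (inv_mem (mul_mem (xG_mem_UP stdE6.good h.q_mem.1 z)
      (xG_mem_UP stdE6.good h.q_mem.2 (σ z)))) (inv_mem e3)
    rw [show (X k c * X (ρ k) (σ c) * (X q z * X (ρ q) (σ z)))⁻¹ *
      (X k c * X q z * (X (ρ k) (σ c) * X (ρ q) (σ z))) = (X q z * X (ρ q) (σ z))⁻¹ *
        ((X (ρ k) (σ c))⁻¹ * X q z * X (ρ k) (σ c) * (X q z)⁻¹) * (X q z * X (ρ q) (σ z)) by group]
    rw [inv_inv] at h3
    have h4 := inv_mem h3
    group at h4 ⊢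
    exact h4

end Step

namespace Step

variable (h : Step σ O k q c)

include h

lemma B_norm {p : GL chevE6.Idx K} (hp : p ∈ U (S O k (wt q))) {y : GL chevE6.Idx K}
    (hy : y ∈ U (B k (wt q))) : p * y * p⁻¹ ∈ U (B k (wt q)) :=
  conj_mem' (fun r hr => hr.1.1) (fun r hr => hr.1) (fun r hr t ht e => B_sum_S h.hk.1 h.hlt hr ht e) hp hy

lemma comm_B {a b : GL chevE6.Idx K} (ha : a ∈ U (S O k (wt q))) (hb : b ∈ U (S O k (wt q))) :
    Eqv (B k (wt q)) a (b * a * b⁻¹) := by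
  have key : ∀ t, S O k (wt q) t → ∀ d : K, ∀ w ∈ U (S O k (wt q)),
      Eqv (B k (wt q)) w (X t d * w * (X t d)⁻¹) := fun t ht d w hw =>
    conj_eqv (X t d) (fun r hr u => conj_mod ht.1.1 hr.1.1 (fun e => S_sum_B h.hk.1 h.hlt hr ht e) d u)
      (fun p hp y hy => h.B_norm hp hy) hw
  induction hb using Subgroup.closure_induction'' generalizing a with
  | one => simp [Eqv]
  | mem y hy =>
    obtain ⟨t, d, ht, rfl⟩ := hy
    exact key t ht d a ha
  | inv_mem y hy =>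
    obtain ⟨t, d, ht, rfl⟩ := hy
    rw [xG_inv]
    exact key t ht (-d) a ha
  | mul x y hx hy ihx ihy =>
    refine (ihy ha).trans ?_
    have := ihx (mul_mem (mul_mem hy ha) (inv_mem hy))
    rwa [show x * (y * a * y⁻¹) * x⁻¹ = x * y * a * (x * y)⁻¹ by group] at this

lemma sq_B {w : GL chevE6.Idx K} (hw : w ∈ U (S O k (wt q))) : w * w ∈ U (B k (wt q)) := by
  induction hw using Subgroup.closure_induction with
  | one => simp
  | mem y hy =>
    obtain ⟨r, u, hr, rfl⟩ := hy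
    rw [xG_add, CharTwo.add_self_eq_zero, xG_zero]
    exact one_mem _
  | inv a ha iha => simpa using inv_mem iha
  | mul a b ha hb iha ihb =>
    have hc := h.B_norm (inv_mem hb) (h.comm_B ha hb)
    rw [inv_inv] at hc
    have h1 := h.B_norm (inv_mem hb) hc
    rw [inv_inv] at h1
    have h2 := mul_mem (mul_mem iha ihb) h1
    rwa [show a * a * (b * b) * (b⁻¹ * (b⁻¹ * (a⁻¹ * (b * a * b⁻¹)) * b) * b) = a * b * (a * b) by group] at h2

/-- the image of the orbit element under the leading one lies in the square target -/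
lemma square {z : K} {v : GL chevE6.Idx K} (hv : v ∈ U (S' O k q))
    (hsq : Ob σ k c * (Ob σ q z * v) * (Ob σ k c * (Ob σ q z * v)) = 1) :
    (Ob σ q z)⁻¹ * (Ob σ k c * Ob σ q z * (Ob σ k c)⁻¹) ∈ U (B k (wt q)) := by
  have hv' : v ∈ U (S O k (wt q)) := UP_mono stdE6 (fun r hr => ⟨hr.1, hr.2.1, hr.2.2.imp_right (by omega)⟩) hv
  have hq' : Ob σ q z ∈ U (S O k (wt q)) := Ob_mem h.q_mem.1 h.q_mem.2 z
  have hw : Ob σ q z * v ∈ U (S O k (wt q)) := mul_mem hq' hv'
  have hdv : Eqv (B k (wt q)) v (Ob σ k c * v * (Ob σ k c)⁻¹) := by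
    have key : ∀ t, (t = k ∨ t = ρ k) → ∀ d : K, ∀ r, S' O k q r → ∀ u : K,
        Eqv (B k (wt q)) (X r u) (X t d * X r u * (X t d)⁻¹) := by
      intro t ht d r hr u
      have htp : chevE6.IsPosRoot t := by rcases ht with rfl | rfl; exacts [h.hk.1, rho_pos h.hk.1]
      refine conj_mod htp hr.1.1 (fun e => ?_) d u
      obtain ⟨hu, hwu, -⟩ := sum_spec hr.1.1 htp e
      have hwt : wt t = wt k := by rcases ht with rfl | rfl; exacts [rfl, wt_rho h.hk.1]
      have := hr.2.1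
      have := wt_pos h.hk.1
      refine ⟨hu, by omega, ?_⟩
      rcases hr.2.2 with h1 | h1
      · exfalso
        rcases ht with rfl | rfl
        · rw [std_facts.symm _ _ hr.1.1 h.hk.1, h1.1] at e; omega
        · rw [std_facts.symm _ _ hr.1.1 htp, h1.2] at e; omega
      · exact .inr (by omega)
    have hn : ∀ p ∈ U (S' O k q), ∀ y ∈ U (B k (wt q)), p * y * p⁻¹ ∈ U (B k (wt q)) := fun p hp y hy =>
      h.B_norm (UP_mono stdE6 (fun r hr => ⟨hr.1, hr.2.1, hr.2.2.imp_right (by omega)⟩) hp) hy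
    have h1 := fun d => conj_eqv (X k d) (key k (.inl rfl) d) hn hv
    unfold Ob
    split_ifs
    · exact h1 c
    · refine (h1 c).trans ?_
      have h2 := conj_eqv (X (ρ k) (σ c)) (key (ρ k) (.inr rfl) (σ c)) hn hv
      have h3 : X k c * (v⁻¹ * (X (ρ k) (σ c) * v * (X (ρ k) (σ c))⁻¹)) * (X k c)⁻¹ ∈ U (B k (wt q)) := by
        refine conj_mem h.hk.1 (fun r hr => hr.1) (fun r hr e => ?_) c h2
        obtain ⟨hu, hwu, -⟩ := sum_spec hr.1 h.hk.1 e
        have := hr.2.1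
        have := wt_pos h.hk.1
        refine ⟨hu, by omega, .inr ?_⟩
        rcases hr.2.2 with h5 | h5
        · rw [std_facts.symm _ _ hr.1 h.hk.1, h5.1] at e; omega
        · omega
      unfold Eqv
      rwa [show (X k c * v * (X k c)⁻¹)⁻¹ * (X k c * X (ρ k) (σ c) * v * (X k c * X (ρ k) (σ c))⁻¹) =
        X k c * (v⁻¹ * (X (ρ k) (σ c) * v * (X (ρ k) (σ c))⁻¹)) * (X k c)⁻¹ by group]
  set x := Ob σ k c
  set Q := Ob σ q z
  have hx : x⁻¹ = x := Ob_inv h.hk.1 c
  have hxw : x * (Q * v) * x⁻¹ = (Q * v)⁻¹ := by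
    rw [hx]
    exact eq_inv_of_mul_eq_one_left (by rw [← hsq]; group)
  have h1 : (Q * v)⁻¹ * (x * (Q * v) * x⁻¹) ∈ U (B k (wt q)) := by
    rw [hxw, ← _root_.mul_inv_rev]
    exact inv_mem (h.sq_B hw)
  have h2 := mul_mem h1 (inv_mem hdv)
  have h3 := h.B_norm hv' h2
  rwa [show v * ((Q * v)⁻¹ * (x * (Q * v) * x⁻¹) * (v⁻¹ * (x * v * x⁻¹))⁻¹) * v⁻¹ =
    Q⁻¹ * (x * Q * x⁻¹) by group] at h3

lemma B_closed : ClosedP chevE6 auxE6 (B k (wt q)) := by
  intro a b ha hb e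
  obtain ⟨hu, hw, -⟩ := sum_spec ha.1 hb.1 e
  have := ha.2.1
  have := hb.2.1
  have := wt_pos h.hk.1
  refine ⟨hu, by omega, ?_⟩
  rcases ha.2.2 with h1 | h1
  · rcases hb.2.2 with h2 | h2
    · exact .inl (both_sum ha.1 hb.1 e h1 h2)
    · exact .inr (by omega)
  · exact .inr (by omega)

lemma B_add_closed {a : ℕ} (ha : chevE6.IsPosRoot a) (hw : wt a = wt k + wt q) :
    ClosedP chevE6 auxE6 (fun r => B k (wt q) r ∨ r = a) := by
  intro x y hx hy e
  refine .inl ?_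
  have hlt := h.hlt
  have hk := wt_pos h.hk.1
  rcases hx with hx | rfl <;> rcases hy with hy | rfl
  · exact h.B_closed x y hx hy e
  · obtain ⟨hu, hws, -⟩ := sum_spec hx.1 ha e
    have := hx.2.1
    exact ⟨hu, by omega, .inr (by omega)⟩
  · obtain ⟨hu, hws, -⟩ := sum_spec ha hy.1 e
    have := hy.2.1
    exact ⟨hu, by omega, .inr (by omega)⟩
  · rw [std_facts.self _ ha] at e
    omega

/-- two root elements above the target -/
lemma two_hit {u u' : ℕ} (hu : chevE6.IsPosRoot u) (hu' : chevE6.IsPosRoot u') (hw : wt u = wt k + wt q)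
    (hw' : wt u' = wt k + wt q) (hne : u ≠ u') (hnb : ¬ Both k u) {α β : K} {b : GL chevE6.Idx K}
    (hb : b ∈ U (B k (wt q))) (he : X u α * b * X u' β ∈ U (B k (wt q))) : α = 0 := by
  refine outside stdE6 std_facts (P := fun r => B k (wt q) r ∨ r = u') ?_ (h.B_add_closed hu' hw') hu ?_ (c := α) ?_
  · rintro r (hr | rfl)
    · exact hr.1
    · exact hu'
  · rintro (hr | rfl)
    · rcases hr.2.2 with h1 | h1
      · exact hnb h1
      · omega
    · exact hne rfl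
  · have h1 := mul_mem (mul_mem (UP_mono stdE6 (fun r hr => Or.inl hr) he)
      (inv_mem (xG_mem_UP stdE6.good (P := fun r => B k (wt q) r ∨ r = u') (Or.inr rfl) β)))
      (inv_mem (UP_mono stdE6 (fun r hr => Or.inl hr) hb))
    rwa [show X u α * b * X u' β * (X u' β)⁻¹ * b⁻¹ = X u α by group] at h1

/-- one root element above the target -/
lemma one_hit {u : ℕ} (hu : chevE6.IsPosRoot u) (hw : wt u = wt k + wt q) (hnb : ¬ Both k u) {α β : K}
    {b : GL chevE6.Idx K} (hb : b ∈ U (B k (wt q))) (he : X u α * b * X u β ∈ U (B k (wt q))) : α + β = 0 := by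
  refine outside stdE6 std_facts (P := B k (wt q)) (fun r hr => hr.1) h.B_closed hu ?_ (c := α + β) ?_
  · intro hr
    rcases hr.2.2 with h1 | h1
    · exact hnb h1
    · omega
  · have h1 := conj_mem (P := B k (wt q)) hu (fun r hr => hr.1) (fun r hr e => by
      obtain ⟨hu', hws, -⟩ := sum_spec hr.1 hu e
      have := hr.2.1
      have := wt_pos h.hk.1
      have := h.hlt
      exact ⟨hu', by omega, .inr (by omega)⟩) α hb
    have h2 := mul_mem (inv_mem h1) he
    rw [← xG_add]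
    rwa [show (X u α * b * (X u α)⁻¹)⁻¹ * (X u α * b * X u β) = X u α * X u β by group] at h2

/-- commuting a root element of the sum past the orbit -/
lemma past {u r : ℕ} (hu : chevE6.IsPosRoot u) (hw : wt u = wt k + wt q) (hr : chevE6.IsPosRoot r)
    (hwr : wt r = wt q) (α s : K) :
    ∃ b ∈ U (B k (wt q)), (X r s)⁻¹ * X u α * X r s = X u α * b := by
  refine ⟨(X u α)⁻¹ * ((X r s)⁻¹ * X u α * X r s), ?_, by group⟩
  have := conj_mod (K := K) (P := B k (wt q)) hr hu (fun e => by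
    obtain ⟨hs, hws, -⟩ := sum_spec hu hr e
    have := wt_pos hr
    have := wt_pos h.hk.1
    exact ⟨hs, by omega, .inr (by omega)⟩) (-s) α
  rw [← xG_inv, inv_inv] at this
  exact this

/-- consequences of being an involution -/
lemma neg_case {z : K} (hz : Coef σ q z) {v : GL chevE6.Idx K} (hv : v ∈ U (S' O k q))
    (hsq : Ob σ k c * (Ob σ q z * v) * (Ob σ k c * (Ob σ q z * v)) = 1) (e : negB k q = true) :
    (ρ k = k → ipE k q = -1 → z = 0) ∧
    (ρ k ≠ k → ipE k q = 0 → ipE (ρ k) q = -1 → ρ q ≠ q → z = 0) ∧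
    (ρ k ≠ k → ipE k q = -1 → ipE (ρ k) q = -1 → ρ q = q → z = 0) ∧
    (ρ k ≠ k → ipE k q = 1 → ipE (ρ k) q = -1 → ρ q ≠ q → ρ (sumI auxE6 q (ρ k)) = sumI auxE6 q (ρ k) →
      σ (z / c) = z / c) := by
  have hE := h.square hv hsq
  have hk := h.hk.1
  have hk' := rho_pos hk
  have hq := h.hq.1
  have hq' := rho_pos hq
  simp only [negB, Bool.and_eq_true, decide_eq_true_eq] at e
  obtain ⟨e1, e2⟩ := e
  have hcases : ∀ a, ipE a q = -1 → chevE6.IsPosRoot a → ipE q a = -1 := fun a ha hp => by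
    rw [← ha]; exact std_facts.symm q a hq hp
  refine ⟨fun hkf ha => ?_, fun hkf ha hb hqf => ?_, fun hkf ha hb hqf => ?_, fun hkf ha hb hqf hu' => ?_⟩
  · obtain ⟨hu, hwu, hlu⟩ := sum_spec hq hk (hcases k ha hk)
    have hnb : ¬ Both k (sumI auxE6 q k) := fun hB => by
      have := hlu k
      rw [ha, std_facts.self k hk, hB.1] at this
      omega
    have hkz : z * c = 0 := by
      by_cases hqf : ρ q = q
      · simp only [Ob, if_pos hkf, if_pos hqf] at hE
        rw [conj_hit hk hq (hcases k ha hk) rfl, inv_mul_cancel_left] at hE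
        exact outside stdE6 std_facts (fun r hr => hr.1) h.B_closed hu (fun hr => by
          rcases hr.2.2 with h1 | h1
          · exact hnb h1
          · omega) hE
      · simp only [Ob, if_pos hkf, if_neg hqf] at hE
        have ha' : ipE (ρ q) k = -1 := by rw [ip_rho_left hq hk, hkf]; exact hcases k ha hk
        rw [hkf] at e2
        rw [← conj_mul, conj_hit hk hq (hcases k ha hk) rfl, conj_hit hk hq' ha' e2.symm] at hE
        obtain ⟨b, hb, hpast⟩ := h.past hu (by omega) hq' (wt_rho hq) (z * c) (σ z)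
        rw [show (X q z * X (ρ q) (σ z))⁻¹ * (X q z * X (sumI auxE6 q k) (z * c) *
          (X (ρ q) (σ z) * X (ρ (sumI auxE6 q k)) (σ z * c))) =
          (X (ρ q) (σ z))⁻¹ * X (sumI auxE6 q k) (z * c) * X (ρ q) (σ z) * X (ρ (sumI auxE6 q k)) (σ z * c)
          by group, hpast] at hE
        refine h.two_hit hu (rho_pos hu) (by omega) (by rw [wt_rho hu]; omega) (fun e' => ?_) hnb hb hE
        have h1 := hlu q
        have h2 := (sum_spec hq' hk ha').2.2 q
        rw [← e2, ← e', h1, pair_ip hq hqf, std_facts.self q hq] at h2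
        omega
    exact (mul_eq_zero.1 hkz).resolve_right h.hc
  · have hqk' := hcases _ hb hk'
    obtain ⟨hu, hwu, hlu⟩ := sum_spec hq hk' hqk'
    have hq'k : ipE (ρ q) k = -1 := by rw [ip_rho_left hq hk]; exact hqk'
    have hnb : ¬ Both k (sumI auxE6 q (ρ k)) := fun hB => by
      have := hlu (ρ k)
      rw [hb, std_facts.self _ hk', hB.2] at this
      omega
    simp only [Ob, if_neg hkf, if_neg hqf] at hE
    have m1 : ipE (ρ q) (ρ k) ≠ -1 := by rw [ip_rho hq hk, std_facts.symm q k hq hk, ha]; decide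
    have m2 : ipE q k ≠ -1 := by rw [std_facts.symm q k hq hk, ha]; decide
    have m3 : ipE (sumI auxE6 q (ρ k)) k ≠ -1 := by
      rw [std_facts.symm _ k hu hk, hlu k, ha, pair_ip hk hkf]; decide
    rw [show X k c * X (ρ k) (σ c) * (X q z * X (ρ q) (σ z)) * (X k c * X (ρ k) (σ c))⁻¹ =
      X k c * ((X (ρ k) (σ c) * X q z * (X (ρ k) (σ c))⁻¹) *
        (X (ρ k) (σ c) * X (ρ q) (σ z) * (X (ρ k) (σ c))⁻¹)) * (X k c)⁻¹ by group,
      conj_hit hk' hq hqk' rfl, conj_miss hk' hq' m1, ← conj_mul, ← conj_mul, conj_miss hk hq m2,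
      conj_miss hk hu m3, conj_hit hk hq' hq'k e1.symm] at hE
    obtain ⟨b, hbm, hpast⟩ := h.past hu (by rw [hwu, wt_rho hk]; ring) hq' (wt_rho hq) (z * σ c) (σ z)
    rw [show (X q z * X (ρ q) (σ z))⁻¹ * (X q z * X (sumI auxE6 q (ρ k)) (z * σ c) *
      (X (ρ q) (σ z) * X (ρ (sumI auxE6 q (ρ k))) (σ z * c))) =
      (X (ρ q) (σ z))⁻¹ * X (sumI auxE6 q (ρ k)) (z * σ c) * X (ρ q) (σ z) *
        X (ρ (sumI auxE6 q (ρ k))) (σ z * c) by group, hpast] at hE
    have hz0 := h.two_hit hu (rho_pos hu) (by rw [hwu, wt_rho hk]; ring)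
      (by rw [wt_rho hu, hwu, wt_rho hk]; ring) (fun e' => by
        have h1 := hlu k
        have h2 := (sum_spec hq' hk hq'k).2.2 k
        rw [← e1, ← e', h1, ha, pair_ip hk hkf, std_facts.self k hk,
          std_facts.symm k (ρ q) hk hq', hq'k] at h2
        omega) hnb hbm hE
    exact (mul_eq_zero.1 hz0).resolve_right ((map_ne_zero σ).2 h.hc)
  · have hqk := hcases k ha hk
    have hqk' := hcases _ hb hk'
    obtain ⟨hu, hwu, hlu⟩ := sum_spec hq hk hqk
    obtain ⟨hu', hwu', hlu'⟩ := sum_spec hq hk' hqk'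
    simp only [Ob, if_neg hkf, if_pos hqf] at hE
    have hnb : ¬ Both k (sumI auxE6 q k) := fun hB => by
      have := hlu k
      rw [ha, std_facts.self k hk, hB.1] at this
      omega
    have h3 : ipE (sumI auxE6 q (ρ k)) k = -1 := by
      rw [std_facts.symm _ k hu' hk, hlu' k, ha, pair_ip hk hkf, add_zero]
    obtain ⟨hu2, hwu2, -⟩ := sum_spec hu' hk h3
    rw [show X k c * X (ρ k) (σ c) * X q z * (X k c * X (ρ k) (σ c))⁻¹ =
      X k c * (X (ρ k) (σ c) * X q z * (X (ρ k) (σ c))⁻¹) * (X k c)⁻¹ by group,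
      conj_hit hk' hq hqk' rfl, ← conj_mul, conj_hit hk hq hqk rfl, conj_hit hk hu' h3 rfl] at hE
    have hB2 : X (sumI auxE6 (sumI auxE6 q (ρ k)) k) (z * σ c * c) ∈ U (B k (wt q)) :=
      xG_mem_UP stdE6.good ⟨hu2, by have := wt_pos hk; have := h.hlt; rw [hwu2, hwu', wt_rho hk]; omega,
        .inr (by have := wt_pos hk; rw [hwu2, hwu', wt_rho hk]; omega)⟩ _
    have hE' := mul_mem hE (inv_mem hB2)
    rw [show (X q z)⁻¹ * (X q z * X (sumI auxE6 q k) (z * c) * (X (sumI auxE6 q (ρ k)) (z * σ c) *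
      X (sumI auxE6 (sumI auxE6 q (ρ k)) k) (z * σ c * c))) *
      (X (sumI auxE6 (sumI auxE6 q (ρ k)) k) (z * σ c * c))⁻¹ =
      X (sumI auxE6 q k) (z * c) * 1 * X (sumI auxE6 q (ρ k)) (z * σ c) by group] at hE'
    have hz0 := h.two_hit hu hu' (by omega) (by rw [hwu', wt_rho hk]; ring) (fun e' => by
      have h1 := hlu k
      have h2 := hlu' k
      rw [e'] at h1
      rw [h2, std_facts.self k hk, pair_ip hk hkf] at h1
      omega) hnb (one_mem _) hE'
    exact (mul_eq_zero.1 hz0).resolve_right h.hc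
  · have hqk' := hcases _ hb hk'
    obtain ⟨hu, hwu, hlu⟩ := sum_spec hq hk' hqk'
    have hq'k : ipE (ρ q) k = -1 := by rw [ip_rho_left hq hk]; exact hqk'
    have hnb : ¬ Both k (sumI auxE6 q (ρ k)) := fun hB => by
      have := hlu (ρ k)
      rw [hb, std_facts.self _ hk', hB.2] at this
      omega
    simp only [Ob, if_neg hkf, if_neg hqf] at hE
    have m1 : ipE (ρ q) (ρ k) ≠ -1 := by rw [ip_rho hq hk, std_facts.symm q k hq hk, ha]; decide
    have m2 : ipE q k ≠ -1 := by rw [std_facts.symm q k hq hk, ha]; decide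
    have m3 : ipE (sumI auxE6 q (ρ k)) k ≠ -1 := by
      rw [std_facts.symm _ k hu hk, hlu k, ha, pair_ip hk hkf]; decide
    rw [show X k c * X (ρ k) (σ c) * (X q z * X (ρ q) (σ z)) * (X k c * X (ρ k) (σ c))⁻¹ =
      X k c * ((X (ρ k) (σ c) * X q z * (X (ρ k) (σ c))⁻¹) *
        (X (ρ k) (σ c) * X (ρ q) (σ z) * (X (ρ k) (σ c))⁻¹)) * (X k c)⁻¹ by group,
      conj_hit hk' hq hqk' rfl, conj_miss hk' hq' m1, ← conj_mul, ← conj_mul, conj_miss hk hq m2,
      conj_miss hk hu m3, conj_hit hk hq' hq'k (e1.symm.trans hu')] at hE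
    obtain ⟨b, hbm, hpast⟩ := h.past hu (by rw [hwu, wt_rho hk]; ring) hq' (wt_rho hq) (z * σ c) (σ z)
    rw [show (X q z * X (ρ q) (σ z))⁻¹ * (X q z * X (sumI auxE6 q (ρ k)) (z * σ c) *
      (X (ρ q) (σ z) * X (sumI auxE6 q (ρ k)) (σ z * c))) =
      (X (ρ q) (σ z))⁻¹ * X (sumI auxE6 q (ρ k)) (z * σ c) * X (ρ q) (σ z) *
        X (sumI auxE6 q (ρ k)) (σ z * c) by group, hpast] at hE
    have hz0 := h.one_hit hu (by rw [hwu, wt_rho hk]; ring) hnb hbm hE
    rw [CharTwo.add_eq_zero] at hz0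
    rw [map_div₀, div_eq_div_iff ((map_ne_zero σ).2 h.hc) h.hc]
    exact hz0.symm

end Step

end CfsgLib.Chev.E62Invol
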