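/-
Fixed involutions of the unipotent subgroup are conjugate to products of orthogonal orbit elements.
-/
import Cfsg.Agent.Lib.Chev.E62Invol.Reduce

set_option autoImplicit false
set_option maxRecDepth 100000
set_option maxHeartbeats 1000000

namespace CfsgLib.Chev.E62Invol

open Cfsg.Lie Matrix CfsgLib.Chev CfsgLib.Chev.SLInv

variable {K : Type*} [Field K] [CharP K 2] {σ : K →+* K}

local notation "X" => xG (Std.good stdE6)
local notation "U" => UP K (Std.good stdE6)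
local notation "Gσ" => Twist.fix (E62.tw σ)

lemma wt_bound : (chevE6.posRoots.all fun r => decide (wt r < 3000)) = true := by decide +kernel

lemma wt_lt {r : ℕ} (hr : chevE6.IsPosRoot r) : wt r < 3000 :=
  of_decide_eq_true (List.all_eq_true.1 wt_bound r (pos_list hr))

omit [CharP K 2] in
lemma Ob_zero (r : ℕ) : Ob σ r (0 : K) = 1 := by
  unfold Ob
  split_ifs <;> simp [xG_zero]

/-- hypotheses common to all orbits -/
structure Base (σ : K →+* K) : Prop where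
  hinv : ∀ a, σ (σ a) = a
  tr : ∃ e : K, e + σ e = 1

variable (hB : Base σ) {O : List ℕ} (hO : ∀ o ∈ O, chevE6.IsPosRoot o) (hOs : ∀ o ∈ O, ρ o ∈ O)

include hB hO hOs

omit hB in
/-- a representative of the orbit in standard position -/
lemma choose_rep {k : ℕ} (hk : Perp chevE6 auxE6 O k) {n : ℤ} {r : ℕ} (hr : S O k n r) (hnb : ¬ Both k r)
    (hwr : wt r = n) : ∃ q, Perp chevE6 auxE6 O q ∧ wt q = n ∧
      ((ρ k = k ∧ ipE k q = 1 ∧ killB k q = true) ∨ (ρ k = k ∧ ipE k q = -1 ∧ negB k q = true) ∨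
      (ρ k ≠ k ∧ ipE k q = 1 ∧ ipE (ρ k) q = 0 ∧ ρ q ≠ q ∧ ρ (dif q k) ≠ dif q k ∧ killB k q = true) ∨
      (ρ k ≠ k ∧ ipE k q = 1 ∧ ipE (ρ k) q = 1 ∧ ρ q = q ∧ ρ (dif q k) ≠ dif q k ∧ killB k q = true) ∨
      (ρ k ≠ k ∧ ipE k q = 1 ∧ ipE (ρ k) q = -1 ∧ ρ q ≠ q ∧ ρ (dif q k) = dif q k ∧ killB k q = true ∧
        negB k q = true ∧ ρ (sumI auxE6 q (ρ k)) = sumI auxE6 q (ρ k)) ∨
      (ρ k ≠ k ∧ ipE k q = 0 ∧ ipE (ρ k) q = -1 ∧ ρ q ≠ q ∧ negB k q = true) ∨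
      (ρ k ≠ k ∧ ipE k q = -1 ∧ ipE (ρ k) q = -1 ∧ ρ q = q ∧ negB k q = true)) := by
  have hcr := case_spec hk.1 hr.1.1 hr.2.1
  have hcr' := case_spec hk.1 (rho_pos hr.1.1) (by rw [wt_rho hr.1.1]; exact hr.2.1)
  have hv1 : ipE k (ρ r) = ipE (ρ k) r := (ip_rho_left hk.1 hr.1.1).symm
  have hv2 : ipE (ρ k) (ρ r) = ipE k r := ip_rho hk.1 hr.1.1
  by_cases hkf : ρ k = k
  · refine ⟨r, hr.1, hwr, ?_⟩
    simp only [caseB, decide_eq_true hkf, cond_true, Bool.and_eq_true, Bool.or_eq_true, decide_eq_true_eq] at hcr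
    rcases hcr with (e | e) | e
    · exact .inl ⟨hkf, e⟩
    · exact .inr (.inl ⟨hkf, e⟩)
    · exact absurd ⟨e, by rw [hkf]; exact e⟩ hnb
  · simp only [caseB, decide_eq_false hkf, cond_false, Bool.and_eq_true, Bool.or_eq_true,
      decide_eq_true_eq] at hcr hcr'
    by_cases hswap : (ipE k r = 0 ∧ ipE (ρ k) r = 1) ∨ (ipE k r = -1 ∧ ipE (ρ k) r = 1) ∨
        (ipE k r = -1 ∧ ipE (ρ k) r = 0)
    · refine ⟨ρ r, perp_rho hO hOs hr.1, by rw [wt_rho hr.1.1, hwr], ?_⟩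
      rw [hv1, hv2] at hcr' ⊢
      rcases hcr' with (((((((e | e) | e) | e) | e) | e) | e) | e) | e
      · exact .inr (.inr (.inl ⟨hkf, e.1.1.1.1, e.1.1.1.2, e.1.1.2, e.1.2, e.2⟩))
      · exact .inr (.inr (.inr (.inl ⟨hkf, e.1.1.1.1, e.1.1.1.2, e.1.1.2, e.1.2, e.2⟩)))
      · exact .inr (.inr (.inr (.inr (.inl ⟨hkf, e.1.1.1.1.1.1, e.1.1.1.1.1.2, e.1.1.1.1.2, e.1.1.1.2, e.1.1.2, e.1.2, e.2⟩))))
      · exact .inr (.inr (.inr (.inr (.inr (.inl ⟨hkf, e.1.1.1, e.1.1.2, e.1.2, e.2⟩)))))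
      · exact .inr (.inr (.inr (.inr (.inr (.inr ⟨hkf, e.1.1.1, e.1.1.2, e.1.2, e.2⟩)))))
      all_goals (clear hcr hv1 hv2; rcases hswap with h | h | h <;> (obtain ⟨ha, hb⟩ := h; obtain ⟨ea, eb⟩ := e; omega))
    · refine ⟨r, hr.1, hwr, ?_⟩
      rcases hcr with (((((((e | e) | e) | e) | e) | e) | e) | e) | e
      · exact .inr (.inr (.inl ⟨hkf, e.1.1.1.1, e.1.1.1.2, e.1.1.2, e.1.2, e.2⟩))
      · exact .inr (.inr (.inr (.inl ⟨hkf, e.1.1.1.1, e.1.1.1.2, e.1.1.2, e.1.2, e.2⟩)))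
      · exact .inr (.inr (.inr (.inr (.inl ⟨hkf, e.1.1.1.1.1.1, e.1.1.1.1.1.2, e.1.1.1.1.2, e.1.1.1.2, e.1.1.2, e.1.2, e.2⟩))))
      · exact .inr (.inr (.inr (.inr (.inr (.inl ⟨hkf, e.1.1.1, e.1.1.2, e.1.2, e.2⟩)))))
      · exact .inr (.inr (.inr (.inr (.inr (.inr ⟨hkf, e.1.1.1, e.1.1.2, e.1.2, e.2⟩)))))
      · exact absurd (.inl e) hswap
      · exact absurd (.inr (.inl e)) hswap
      · exact absurd (.inr (.inr e)) hswap
      · exact absurd e hnb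

/-- one orbit is removed from the part beside the leading orbit -/
lemma advance {k : ℕ} (hk : Perp chevE6 auxE6 O k) {c : K} (hc : c ≠ 0) (hcf : Coef σ k c) {n : ℤ}
    {w : GL chevE6.Idx K} (hw : w ∈ U (S O k n)) (hwf : w ∈ Gσ)
    (h2 : Ob σ k c * w * (Ob σ k c * w) = 1) :
    ∃ g ∈ Gσ, g ∈ U (Perp chevE6 auxE6 O) ∧ ∃ w' ∈ U (S O k (n + 1)), w' ∈ Gσ ∧
      g * (Ob σ k c * w) * g⁻¹ = Ob σ k c * w' := by
  classical
  by_cases hex : ∃ r, S O k n r ∧ ¬ Both k r ∧ wt r = n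
  swap
  · refine ⟨1, one_mem _, one_mem _, w, UP_mono stdE6 (fun r hr => ⟨hr.1, hr.2.1, ?_⟩) hw, hwf, by simp⟩
    rcases hr.2.2 with e | e
    · exact .inl e
    · by_cases hb : Both k r
      · exact .inl hb
      · exact .inr (lt_of_le_of_ne e fun e' => hex ⟨r, hr, hb, e'.symm⟩)
  obtain ⟨r, hr, hnb, hwr⟩ := hex
  obtain ⟨q, hq, hqw, hcase⟩ := choose_rep hO hOs hk hr hnb hwr
  subst hqw
  have hlt : wt k < wt q := hwr ▸ hr.2.1
  have hs : Step σ O k q c := ⟨hO, hOs, hB.hinv, hB.tr, hk, hc, hcf, hq, hlt⟩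
  have hnbq : ¬ Both k q := by
    rintro ⟨h1, h2⟩
    omega
  obtain ⟨z, hz, v, hv, hvf, rfl⟩ := split_orbit hB.hinv (P := S O k (wt q)) (P' := S' O k q) hq.1
    (fun x hx => by
      rcases hx.2.2 with e | e
      · exact .inr (.inr ⟨hx.1, hx.2.1, .inl e⟩)
      · rcases eq_or_lt_of_le e with e' | e'
        · exact (wt_eq hq.1 hx.1.1 e').imp id .inl
        · exact .inr (.inr ⟨hx.1, hx.2.1, .inr (by omega)⟩))
    (fun x hx => hx.1.1) (S_closed hO hk.1 _) (fun x hx => hs.S'_stable hx)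
    (fun hx => by
      rcases hx.2.2 with e | e
      · exact hnbq e
      · omega)
    (fun x hx e => by
      have hxp : Perp chevE6 auxE6 O x := by
        rcases hx with hx | rfl
        exacts [hx.1, perp_rho hO hOs hq]
      refine hs.above (perp_sum hO hxp hq e) ?_
      rw [(sum_spec hxp.1 hq.1 e).2.1]
      have := wt_pos hxp.1
      omega) hw hwf
  have hdrop : z = 0 → ∃ g ∈ Gσ, g ∈ U (Perp chevE6 auxE6 O) ∧ ∃ w' ∈ U (S O k (wt q + 1)), w' ∈ Gσ ∧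
      g * (Ob σ k c * (Ob σ q z * v)) * g⁻¹ = Ob σ k c * w' := by
    rintro rfl
    exact ⟨1, one_mem _, one_mem _, v, hv, hvf, by simp [Ob_zero]⟩
  rcases hcase with ⟨a, b, e⟩ | ⟨a, b, e⟩ | ⟨a, b, b', f1, f2, e⟩ | ⟨a, b, b', f1, f2, e⟩ |
    ⟨a, b, b', f1, f2, e, e', e''⟩ | ⟨a, b, b', f1, e⟩ | ⟨a, b, b', f1, e⟩
  · obtain ⟨d, hd, he⟩ := hs.kill_pos hz e (.inl a)
    exact hs.remove (hs.kill_facts e).1 (hs.kill_facts e).2.2.2.1 hd hz he hv hvf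
  · exact hdrop ((hs.neg_case hz hv h2 e).1 a b)
  · obtain ⟨d, hd, he⟩ := hs.kill_pos hz e (.inr (.inl ⟨b', f1, f2⟩))
    exact hs.remove (hs.kill_facts e).1 (hs.kill_facts e).2.2.2.1 hd hz he hv hvf
  · obtain ⟨d, hd, he⟩ := hs.kill_pos hz e (.inr (.inr (.inl ⟨b', f1, f2⟩)))
    exact hs.remove (hs.kill_facts e).1 (hs.kill_facts e).2.2.2.1 hd hz he hv hvf
  · obtain ⟨d, hd, he⟩ := hs.kill_pos hz e (.inr (.inr (.inr ⟨b', f1, f2,
      (hs.neg_case hz hv h2 e').2.2.2 a b b' f1 e''⟩)))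
    exact hs.remove (hs.kill_facts e).1 (hs.kill_facts e).2.2.2.1 hd hz he hv hvf
  · exact hdrop ((hs.neg_case hz hv h2 e).2.1 a b b' f1)
  · exact hdrop ((hs.neg_case hz hv h2 e).2.2.1 a b b' f1)

/-- the part beside the leading orbit becomes orthogonal to it -/
lemma clear_beside {k : ℕ} (hk : Perp chevE6 auxE6 O k) {c : K} (hc : c ≠ 0) (hcf : Coef σ k c) :
    ∀ (m : ℕ) (n : ℤ), 3000 ≤ n + m → ∀ w ∈ U (S O k n), w ∈ Gσ → Ob σ k c * w * (Ob σ k c * w) = 1 →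
      ∃ g ∈ Gσ, g ∈ U (Perp chevE6 auxE6 O) ∧ ∃ w' ∈ U (fun r => (Perp chevE6 auxE6 O r ∧ wt k < wt r) ∧ Both k r),
        w' ∈ Gσ ∧ g * (Ob σ k c * w) * g⁻¹ = Ob σ k c * w' := by
  intro m
  induction m with
  | zero =>
    intro n hn w hw hwf _
    refine ⟨1, one_mem _, one_mem _, w, UP_mono stdE6 (fun r hr => ⟨⟨hr.1, hr.2.1⟩, hr.2.2.resolve_right fun e => ?_⟩) hw,
      hwf, by simp⟩
    have := wt_lt hr.1.1
    omega
  | succ m ih =>
    intro n hn w hw hwf h2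
    obtain ⟨g, hg, hgU, w', hw', hwf', e⟩ := advance hB hO hOs hk hc hcf hw hwf h2
    have h2' : Ob σ k c * w' * (Ob σ k c * w') = 1 := by rw [← e, conj_mul, h2, mul_one, mul_inv_cancel]
    obtain ⟨g', hg', hgU', w'', hw'', hwf'', e'⟩ := ih (n + 1) (by omega) w' hw' hwf' h2'
    refine ⟨g' * g, mul_mem hg' hg, mul_mem hgU' hgU, w'', hw'', hwf'', ?_⟩
    rw [← e', ← e]
    group

omit hO hOs in
/-- every fixed involution is conjugate to a product of orthogonal orbit elements -/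
theorem orbit_reduce {y : GL chevE6.Idx K} (hy : y ∈ chevE6.posUnipotent K) (hyf : y ∈ Gσ) (h2 : y * y = 1) :
    ∃ g ∈ Gσ, ∃ L : List (ℕ × K), (∀ p ∈ L, chevE6.IsPosRoot p.1 ∧ p.2 ≠ 0 ∧ Coef σ p.1 p.2) ∧
      L.Pairwise (fun a b => Both a.1 b.1) ∧ g * y * g⁻¹ = (L.map fun p => Ob σ p.1 p.2).prod := by
  classical
  suffices H : ∀ (m : ℕ) (n : ℤ), 3000 ≤ n + m → ∀ O : List ℕ, (∀ o ∈ O, chevE6.IsPosRoot o) →
      (∀ o ∈ O, ρ o ∈ O) → ∀ y ∈ U (fun r => Perp chevE6 auxE6 O r ∧ n ≤ wt r), y ∈ Gσ → y * y = 1 →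
      ∃ g ∈ Gσ, g ∈ U (Perp chevE6 auxE6 O) ∧ ∃ L : List (ℕ × K),
        (∀ p ∈ L, (Perp chevE6 auxE6 O p.1 ∧ n ≤ wt p.1) ∧ p.2 ≠ 0 ∧ Coef σ p.1 p.2) ∧
        L.Pairwise (fun a b => Both a.1 b.1) ∧ g * y * g⁻¹ = (L.map fun p => Ob σ p.1 p.2).prod by
    rw [posUnipotent_eq stdE6.good] at hy
    have hy' : y ∈ U (fun r => Perp chevE6 auxE6 [] r ∧ (0 : ℤ) ≤ wt r) :=
      UP_mono stdE6 (P := fun r => chevE6.IsPosRoot r) (fun r hr => ⟨⟨hr, by simp⟩, (wt_pos hr).le⟩) hy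
    obtain ⟨g, hg, -, L, hL, hp, e⟩ := H 3000 0 (by simp) [] (by simp) (by simp) y hy' hyf h2
    exact ⟨g, hg, L, fun p hp => ⟨(hL p hp).1.1.1, (hL p hp).2⟩, hp, e⟩
  intro m
  induction m with
  | zero =>
    intro n hn O _ _ y hy _ _
    have : y = 1 := Subgroup.mem_bot.1 ((UP_le (K := ⊥) fun r t hr => by
      have := wt_lt hr.1.1
      omega) hy)
    exact ⟨1, one_mem _, one_mem _, [], by simp, List.Pairwise.nil, by simp [this]⟩
  | succ m ih =>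
    intro n hn O hO hOs y hy hyf h2
    by_cases hex : ∃ r, Perp chevE6 auxE6 O r ∧ wt r = n
    swap
    · obtain ⟨g, hg, hgU, L, hL, rest⟩ := ih (n + 1) (by omega) O hO hOs y (UP_mono stdE6 (fun r hr =>
        ⟨hr.1, lt_of_le_of_ne hr.2 fun e => hex ⟨r, hr.1, e.symm⟩⟩) hy) hyf h2
      exact ⟨g, hg, hgU, L, fun p hp => ⟨⟨(hL p hp).1.1, by have := (hL p hp).1.2; omega⟩, (hL p hp).2⟩, rest⟩
    obtain ⟨k, hk, rfl⟩ := hex
    set P' := fun r => Perp chevE6 auxE6 O r ∧ wt k < wt r with hP'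
    obtain ⟨c, hc, w, hw, hwf, rfl⟩ := split_orbit hB.hinv (P' := P') hk.1
      (fun x hx => by
        rcases eq_or_lt_of_le hx.2 with e | e
        · exact (wt_eq hk.1 hx.1.1 e).imp id .inl
        · exact .inr (.inr ⟨hx.1, e⟩))
      (fun x hx => hx.1.1)
      (fun a b ha hb e => ⟨perp_sum hO ha.1 hb.1 e, by
        rw [(sum_spec ha.1.1 hb.1.1 e).2.1]
        have := wt_pos ha.1.1
        have := hb.2
        omega⟩)
      (fun x hx => ⟨perp_rho hO hOs hx.1, by rw [wt_rho hx.1.1]; exact hx.2⟩)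
      (fun hx => lt_irrefl _ hx.2)
      (fun x hx e => by
        have hxp : Perp chevE6 auxE6 O x := by
          rcases hx with hx | rfl
          exacts [hx.1, perp_rho hO hOs hk]
        refine ⟨perp_sum hO hxp hk e, ?_⟩
        rw [(sum_spec hxp.1 hk.1 e).2.1]
        have := wt_pos hxp.1
        omega) hy hyf
    rcases eq_or_ne c 0 with rfl | hcne
    · rw [Ob_zero, one_mul] at h2 ⊢
      obtain ⟨g, hg, hgU, L, hL, rest⟩ := ih (wt k + 1) (by omega) O hO hOs w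
        (UP_mono stdE6 (fun r hr => ⟨hr.1, hr.2⟩) hw) hwf h2
      exact ⟨g, hg, hgU, L, fun p hp => ⟨⟨(hL p hp).1.1, by have := (hL p hp).1.2; omega⟩, (hL p hp).2⟩, rest⟩
    obtain ⟨g₁, hg₁, hg₁U, w₁, hw₁, hw₁f, e₁⟩ := clear_beside hB hO hOs hk hcne hc 3000 0 (by simp) w
      (UP_mono stdE6 (fun r hr => ⟨hr.1, hr.2, .inr (wt_pos hr.1.1).le⟩) hw) hwf h2
    have hcomm : ∀ g ∈ U (fun r => Perp chevE6 auxE6 O r ∧ Both k r), Commute (Ob σ k c) g := by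
      intro g hg
      suffices U (fun r => Perp chevE6 auxE6 O r ∧ Both k r) ≤ Subgroup.centralizer {Ob σ k c} from
        (Subgroup.mem_centralizer_singleton_iff.1 (this hg)).symm
      refine UP_le fun r t hr => Subgroup.mem_centralizer_singleton_iff.2 ?_
      have h1 := commute_perp stdE6 std_facts hk.1 hr.1.1 (by rw [hr.2.1]; decide) c t
      have h2 := commute_perp stdE6 std_facts (rho_pos hk.1) hr.1.1 (by rw [hr.2.2]; decide) (σ c) t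
      unfold Ob
      split_ifs
      · exact h1.symm
      · exact (h1.mul_left h2).symm
    have hs1 : Ob σ k c * w₁ * (Ob σ k c * w₁) = 1 := by rw [← e₁, conj_mul, h2, mul_one, mul_inv_cancel]
    have hcw : Commute (Ob σ k c) w₁ := hcomm w₁ (UP_mono stdE6 (fun r hr => ⟨hr.1.1, hr.2⟩) hw₁)
    have hw2 : w₁ * w₁ = 1 := by
      rw [← hs1, show Ob σ k c * w₁ * (Ob σ k c * w₁) = Ob σ k c * (w₁ * Ob σ k c) * w₁ by group, ← hcw.eq,
        show Ob σ k c * (Ob σ k c * w₁) * w₁ = (Ob σ k c * Ob σ k c) * (w₁ * w₁) by group, Ob_sq hk.1, one_mul]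
    have hO' : ∀ o ∈ k :: ρ k :: O, chevE6.IsPosRoot o := by simpa using ⟨hk.1, rho_pos hk.1, hO⟩
    have hOs' : ∀ o ∈ k :: ρ k :: O, ρ o ∈ k :: ρ k :: O := by
      intro o ho
      rcases List.mem_cons.1 ho with rfl | ho
      · simp
      rcases List.mem_cons.1 ho with rfl | ho
      · simp [(rho_spec hk.1.1).2.1]
      · simp [hOs o ho]
    obtain ⟨g₂, hg₂, hg₂U, L, hL, hp, e₂⟩ := ih (wt k + 1) (by omega) (k :: ρ k :: O) hO' hOs' w₁
      (UP_mono stdE6 (fun r hr => ⟨⟨hr.1.1.1, by simpa using ⟨hr.2.1, hr.2.2, hr.1.1.2⟩⟩, hr.1.2⟩) hw₁) hw₁f hw2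
    have hsub : ∀ r, Perp chevE6 auxE6 (k :: ρ k :: O) r → Perp chevE6 auxE6 O r ∧ Both k r := fun r hr =>
      ⟨⟨hr.1, fun o ho => hr.2 o (by simp [ho])⟩, hr.2 k (by simp), hr.2 (ρ k) (by simp)⟩
    refine ⟨g₂ * g₁, mul_mem hg₂ hg₁, mul_mem (UP_mono stdE6 (fun r hr => (hsub r hr).1) hg₂U) hg₁U,
      (k, c) :: L, ?_, ?_, ?_⟩
    · intro p hp'
      rcases List.mem_cons.1 hp' with rfl | hp'
      · exact ⟨⟨hk, le_rfl⟩, hcne, hc⟩
      · exact ⟨⟨(hsub _ (hL p hp').1.1).1, by have := (hL p hp').1.2; omega⟩, (hL p hp').2⟩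
    · exact List.pairwise_cons.2 ⟨fun p hp' => (hsub _ (hL p hp').1.1).2, hp⟩
    · have hck : Commute (Ob σ k c) g₂ := hcomm g₂ (UP_mono stdE6 hsub hg₂U)
      rw [List.map_cons, List.prod_cons, ← e₂,
        show g₂ * g₁ * (Ob σ k c * w) * (g₂ * g₁)⁻¹ = g₂ * (g₁ * (Ob σ k c * w) * g₁⁻¹) * g₂⁻¹ by group, e₁,
        show Ob σ k c * (g₂ * w₁ * g₂⁻¹) = (Ob σ k c * g₂) * w₁ * g₂⁻¹ by group, hck.eq]
      group

end CfsgLib.Chev.E62Invol
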