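/-
Reduction of products of orthogonal orbit elements of twisted E6 by tables of folded Weyl words.
-/
import Cfsg.Agent.Lib.Chev.E62Invol.Orbit
import Cfsg.Agent.Lib.Chev.SLInvol.Classify

set_option autoImplicit false
set_option maxRecDepth 100000
set_option maxHeartbeats 1000000

namespace CfsgLib.Chev.E62Invol

open Cfsg.Lie Matrix CfsgLib.Chev CfsgLib.Chev.SLInv

/-- the roots of an orbit -/
noncomputable def orbL (r : ℕ) : List ℕ := if ρ r = r then [r] else [r, ρ r]

/-- the roots of a list of orbits -/
noncomputable def flat (R : List ℕ) : List ℕ := R.flatMap orbL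

/-- the word of a code -/
noncomputable def word (code : ℕ) : List ℕ := foldE62.flat (dec code)

/-- the data of the reduction: entries with code at least ten lead to a representative -/
structure Data where
  reps : List (List ℕ)
  tab : List (List (ℕ × ℕ × ℕ))
  bads : List (List ℕ × List ℕ × List ℕ)

variable (X : Data)

/-- the orbits which may extend a representative -/
noncomputable def cand (R : List ℕ) : List ℕ :=
  (List.range chevE6.nroots).filter fun r =>
    (flat R).all fun o => (orbL r).all fun a => perpB chevE6 auxE6 o a

/-- one entry of the table -/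
noncomputable def entryB (R : List ℕ) (e : ℕ × ℕ × ℕ) : Bool :=
  (dec e.2.2).all (fun j => decide (j < foldE62.num)) &&
  (bif decide (e.2.1 < 10) then decide (e.2.1 < X.bads.length) &&
    ((X.bads.getD e.2.1 ([], [], [])).1.all fun b => ((flat (R ++ [e.1])).map (wf auxE6 (word e.2.2))).contains b)
  else decide (e.2.1 - 10 < X.reps.length) &&
    sameB ((flat (R ++ [e.1])).map (wf auxE6 (word e.2.2))) (flat (X.reps.getD (e.2.1 - 10) [])))

/-- the check of a level -/
noncomputable def levelB (k : ℕ) : Bool :=
  (cand (X.reps.getD k [])).all (fun r => ((X.tab.getD k []).map Prod.fst).contains r) &&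
    (X.tab.getD k []).all fun e => entryB X (X.reps.getD k []) e

/-- the check of the representatives -/
noncomputable def repsB : Bool :=
  decide (X.reps.getD 0 [] = []) && decide (0 < X.reps.length) &&
  X.reps.all fun R => R.all (fun r => decide (r < chevE6.nroots)) &&
    decide ((flat R).Pairwise fun a b => perpB chevE6 auxE6 a b = true)

/-- the check of one reducible configuration -/
noncomputable def badB (e : List ℕ × List ℕ × List ℕ) : Bool :=
  e.1.all (fun r => decide (r < chevE6.nroots) && e.1.contains (ρ r)) && decide e.1.Nodup &&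
  decide ((flat e.2.1).length < e.1.length) && e.2.1.all (fun r => decide (r < chevE6.nroots)) &&
  decide ((flat e.2.1).Pairwise fun a b => perpB chevE6 auxE6 a b = true) &&
  e.2.2.all (fun r => decide (r < chevE6.nroots) && perpB chevE6 auxE6 r (ρ r) || decide (ρ r = r) && decide (r < chevE6.nroots)) &&
  ((List.range chevE6.nroots).all fun t => !(e.1.all fun b => perpB chevE6 auxE6 b t) ||
    (flat e.2.1 ++ flat e.2.2).all fun q => perpB chevE6 auxE6 q t) &&
  wordEqCheck chevE6 auxE6 2 ((flat e.2.2 ++ e.1 ++ (flat e.2.2).reverse).map fun r => (r, 1))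
    ((flat e.2.1).map fun r => (r, 1))

/-- the checks on the configurations -/
noncomputable def badsB : Bool := X.bads.all fun e => badB e

/-- all checks -/
structure Checked : Prop where
  reps : repsB X = true
  bads : badsB X = true
  tab : ∀ k < X.reps.length, levelB X k = true

variable {X}

lemma mem_orbL {a r : ℕ} : a ∈ orbL r ↔ a = r ∨ a = ρ r := by
  unfold orbL
  split_ifs with h <;> simp [h]

lemma mem_flat {a : ℕ} {R : List ℕ} : a ∈ flat R ↔ ∃ r ∈ R, a = r ∨ a = ρ r := by
  simp only [flat, List.mem_flatMap, mem_orbL]

lemma flat_append (R R' : List ℕ) : flat (R ++ R') = flat R ++ flat R' := by simp [flat]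

lemma flat_cons (r : ℕ) (R : List ℕ) : flat (r :: R) = orbL r ++ flat R := rfl

lemma flat_lt {R : List ℕ} (h : ∀ r ∈ R, r < chevE6.nroots) : ∀ a ∈ flat R, a < chevE6.nroots := by
  intro a ha
  obtain ⟨r, hr, e | e⟩ := mem_flat.1 ha
  · exact e ▸ h r hr
  · exact e ▸ (rho_spec (h r hr)).1

lemma lt_of_flat {R : List ℕ} (h : ∀ a ∈ flat R, a < chevE6.nroots) : ∀ r ∈ R, r < chevE6.nroots :=
  fun r hr => h r (mem_flat.2 ⟨r, hr, .inl rfl⟩)

lemma word_letters {code : ℕ} (h : ∀ j ∈ dec code, j < foldE62.num) : Letters chevE6 (word code) :=
  foldE62_valid.flat_letters h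

lemma wf_rho {l : List ℕ} (hl : ∀ j ∈ l, j < foldE62.num) {r : ℕ} (hr : r < chevE6.nroots) :
    wf auxE6 (foldE62.flat l) (ρ r) = ρ (wf auxE6 (foldE62.flat l) r) := by
  induction l with
  | nil => rfl
  | cons j l ih =>
    have hl' : ∀ i ∈ l, i < foldE62.num := fun i hi => hl i (List.mem_cons_of_mem _ hi)
    have e : foldE62.flat (j :: l) = foldE62.w j ++ foldE62.flat l := by simp [Fold.flat]
    rw [e, wf_append, wf_append, ih hl', foldE62_valid.w_comm j (hl j List.mem_cons_self) _
      (wf_lt stdE6.good (foldE62_valid.flat_letters hl') hr)]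

lemma map_flat {code : ℕ} (h : ∀ j ∈ dec code, j < foldE62.num) {R : List ℕ} (hR : ∀ r ∈ R, r < chevE6.nroots) :
    (flat R).map (wf auxE6 (word code)) = flat (R.map (wf auxE6 (word code))) := by
  induction R with
  | nil => rfl
  | cons r R ih =>
    rw [List.map_cons, flat_cons, flat_cons, List.map_append, ih fun x hx => hR x (List.mem_cons_of_mem _ hx)]
    congr 1
    have hr := hR r List.mem_cons_self
    have e : wf auxE6 (word code) (ρ r) = ρ (wf auxE6 (word code) r) := wf_rho h hr
    have hinj : ρ r = r ↔ ρ (wf auxE6 (word code) r) = wf auxE6 (word code) r := by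
      rw [← e]
      refine ⟨fun h' => by rw [h'], fun h' => ?_⟩
      have hl := word_letters h
      rw [← wf_rev_left stdE6.good hl (rho_spec hr).1, h', wf_rev_left stdE6.good hl hr]
    unfold orbL
    by_cases hr' : ρ r = r
    · rw [if_pos hr', if_pos (hinj.1 hr')]; rfl
    · rw [if_neg hr', if_neg (mt hinj.2 hr')]; simp [e]

variable {K : Type*} [Field K] [CharP K 2] {σ : K →+* K}

local notation "Gσ" => Twist.fix (E62.tw σ)
local notation "P₆" => P (F := K) (Std.good stdE6)

lemma P_orb_fix (hinv : ∀ a, σ (σ a) = a) {r : ℕ} (hr : r < chevE6.nroots)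
    (h : ρ r = r ∨ perpB chevE6 auxE6 r (ρ r) = true) : P₆ (orbL r) ∈ Gσ := by
  have m1 := maps_X (σ := σ) hr 1
  rw [map_one] at m1
  unfold orbL
  split_ifs with h'
  · rw [h'] at m1
    simpa [P] using (Twist.mem_fix _).2 m1
  · have m2 := maps_X (σ := σ) (rho_spec hr).1 1
    rw [map_one, (rho_spec hr).2.1] at m2
    have hm := Twist.Maps.mul _ m1 m2
    rw [← (commute_orth stdE6 SLInv.E6.base_ok hr (rho_spec hr).1 (h.resolve_left h') 1 1).eq] at hm
    simpa [P] using (Twist.mem_fix _).2 hm

lemma P_flat_fix (hinv : ∀ a, σ (σ a) = a) : ∀ {R : List ℕ},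
    (∀ r ∈ R, r < chevE6.nroots ∧ (ρ r = r ∨ perpB chevE6 auxE6 r (ρ r) = true)) → P₆ (flat R) ∈ Gσ
  | [], _ => by simp [flat, P]
  | r :: R, h => by
    rw [flat_cons, P_append stdE6]
    exact mul_mem (P_orb_fix hinv (h r List.mem_cons_self).1 (h r List.mem_cons_self).2)
      (P_flat_fix hinv fun x hx => h x (List.mem_cons_of_mem _ hx))

variable (σ) in
/-- conjugate in the fixed group to a representative -/
def Rch (X : Data) (y : GL chevE6.Idx K) : Prop :=
  ∃ k < X.reps.length, ∃ g ∈ Gσ, g * y * g⁻¹ = P₆ (flat (X.reps.getD k []))

lemma Rch.step {y z g : GL chevE6.Idx K} (hg : g ∈ Gσ) (e : g * y * g⁻¹ = z) (hz : Rch σ X z) : Rch σ X y := by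
  obtain ⟨k, hk, g', hg', e'⟩ := hz
  refine ⟨k, hk, g' * g, mul_mem hg' hg, ?_⟩
  rw [← e', ← e]
  group

/-- every product of orthogonal orbit elements with coefficient one is conjugate to a representative -/
theorem reach (hinv : ∀ a, σ (σ a) = a) (hC : Checked X) {L : List ℕ} (hL : Orth chevE6 auxE6 (flat L)) :
    Rch σ X (P₆ (flat L)) := by
  have hbase := SLInv.E6.base_ok
  have hR := hC.reps
  simp only [repsB, Bool.and_eq_true, decide_eq_true_eq, List.all_eq_true] at hR
  obtain ⟨⟨hR0, hRp⟩, hRo⟩ := hR
  suffices ∀ n, ∀ L : List ℕ, (flat L).length ≤ n → Orth chevE6 auxE6 (flat L) → Rch σ X (P₆ (flat L)) from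
    this _ L le_rfl hL
  intro n
  induction n using Nat.strong_induction_on with
  | _ n ih =>
    suffices H : ∀ tl : List ℕ, ∀ k < X.reps.length, (flat (X.reps.getD k [] ++ tl)).length ≤ n →
        Orth chevE6 auxE6 (flat (X.reps.getD k [] ++ tl)) → Rch σ X (P₆ (flat (X.reps.getD k [] ++ tl))) by
      intro L hn hL
      have := H L 0 hRp (by rwa [hR0]) (by rwa [hR0])
      rwa [hR0] at this
    intro tl
    induction hm : tl.length generalizing tl with
    | zero => exact fun k hk _ _ => ⟨k, hk, 1, one_mem _, by simp [List.length_eq_zero_iff.1 hm]⟩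
    | succ m iht =>
      intro k hk hn hO
      obtain ⟨r, tl, rfl⟩ := List.exists_cons_of_length_eq_add_one hm
      set R := X.reps.getD k []
      rw [show R ++ r :: tl = (R ++ [r]) ++ tl by simp] at hn hO ⊢
      have hroots := lt_of_flat hO.1
      have hrc : r ∈ cand R := by
        refine List.mem_filter.2 ⟨List.mem_range.2 (hroots r (by simp)), List.all_eq_true.2 fun o ho =>
          List.all_eq_true.2 fun a ha => ?_⟩
        have h1 := hO.2
        rw [flat_append, flat_append] at h1
        exact (List.pairwise_append.1 (List.pairwise_append.1 h1).1).2.2 o ho a (by simpa [flat] using ha)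
      have hlev := hC.tab k hk
      simp only [levelB, Bool.and_eq_true, List.all_eq_true, List.contains_iff_mem] at hlev
      obtain ⟨⟨r', c, code⟩, he, rfl : r' = r⟩ := List.mem_map.1 (hlev.1 _ hrc)
      have hent := hlev.2 _ he
      simp only [entryB, Bool.and_eq_true, List.all_eq_true, decide_eq_true_eq] at hent
      obtain ⟨hw, hent⟩ := hent
      have hwl := word_letters hw
      set f := wf auxE6 (word code)
      have hO' := hO.map stdE6.good hwl
      refine Rch.step ((E62.tw σ).nFlat_fix hw) (P_map stdE6 hwl hO.1) ?_
      show Rch σ X (P₆ ((flat (R ++ [r'] ++ tl)).map f))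
      rw [flat_append, List.map_append] at hO' ⊢
      rw [flat_append, List.length_append, ← List.length_map (f := f) (as := flat (R ++ [r'])),
        ← List.length_map (f := f) (as := flat tl)] at hn
      set M := (flat (R ++ [r'])).map f
      set N := (flat tl).map f
      have hN : N = flat (tl.map f) := map_flat hw fun x hx => hroots x (by simp [hx])
      have hMf : M = flat ((R ++ [r']).map f) := map_flat hw fun x hx => hroots x (List.mem_append_left _ hx)
      by_cases hc : c < 10
      · -- a configuration appears
        simp only [decide_eq_true hc, cond_true, Bool.and_eq_true, decide_eq_true_eq, List.all_eq_true,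
          List.contains_iff_mem] at hent
        obtain ⟨hcl, hsub⟩ := hent
        set E := X.bads.getD c ([], [], [])
        have hb : badB E = true := by
          have := hC.bads
          simp only [badsB, List.all_eq_true] at this
          refine this E ?_
          simp only [E, List.getD_eq_getElem?_getD, List.getElem?_eq_getElem hcl, Option.getD_some]
          exact List.getElem_mem _
        simp only [badB, Bool.and_eq_true, decide_eq_true_eq, List.all_eq_true, List.mem_range, Bool.or_eq_true,
          List.mem_append, Bool.not_eq_true', Bool.eq_false_iff, ne_eq, List.contains_iff_mem] at hb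
        obtain ⟨⟨⟨⟨⟨⟨⟨hbr, hbn⟩, hlen⟩, htr⟩, hto⟩, hgr⟩, hperp⟩, heq⟩ := hb
        set rest := ((R ++ [r'] ++ tl).map f).filter fun a => decide (a ∉ E.1)
        have himg : M ++ N = flat ((R ++ [r'] ++ tl).map f) := by
          rw [hN, hMf, ← flat_append, ← List.map_append]
        have hlt' : ∀ a ∈ (R ++ [r'] ++ tl).map f, a < chevE6.nroots := lt_of_flat (himg ▸ hO'.1)
        have hmem : ∀ a, a ∈ flat rest ↔ a ∈ M ++ N ∧ a ∉ E.1 := by
          intro a
          rw [himg, mem_flat, mem_flat]
          constructor
          · rintro ⟨x, hx, ha⟩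
            obtain ⟨hx1, hx2⟩ := List.mem_filter.1 hx
            refine ⟨⟨x, hx1, ha⟩, fun hb => of_decide_eq_true hx2 ?_⟩
            rcases ha with rfl | rfl
            · exact hb
            · have := (hbr _ hb).2
              rwa [(rho_spec (hlt' x hx1)).2.1] at this
          · rintro ⟨⟨x, hx, ha⟩, hna⟩
            refine ⟨x, List.mem_filter.2 ⟨hx, decide_eq_true fun hb => hna ?_⟩, ha⟩
            rcases ha with rfl | rfl
            · exact hb
            · exact (hbr _ hb).2
        have hnd := hO'.nodup hbase
        have hndr : (flat rest).Nodup := by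
          have : (flat rest).Sublist (flat ((R ++ [r'] ++ tl).map f)) := List.filter_sublist.flatMap orbL
          exact this.nodup (himg ▸ hnd)
        have hperm : (M ++ N).Perm (E.1 ++ flat rest) := by
          refine (List.perm_ext_iff_of_nodup hnd (List.nodup_append.2 ⟨hbn, hndr, ?_⟩)).2 fun a => ?_
          · intro a ha b hb e
            exact ((hmem b).1 hb).2 (e ▸ ha)
          · rw [List.mem_append (s := E.1), hmem]
            exact ⟨fun h => (em (a ∈ E.1)).imp id fun hn => ⟨h, hn⟩,
              fun h => h.elim (fun hb => List.mem_append_left _ (hsub a hb)) And.left⟩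
        rw [P_perm stdE6 hbase hO' hperm]
        have hO2 := hO'.perm hperm
        have hcross := (List.pairwise_append.1 hO2.2).2.2
        have hperp' : ∀ q ∈ flat E.2.1 ++ flat E.2.2, ∀ t ∈ flat rest, perpB chevE6 auxE6 q t = true := by
          intro q hq t ht
          refine ((hperp t (hO2.1 t (List.mem_append_right _ ht))).resolve_left ?_) q (List.mem_append.1 hq)
          exact fun hne => hne fun b hb => hcross b hb t ht
        have hgr' : ∀ q ∈ E.2.2, q < chevE6.nroots ∧ (ρ q = q ∨ perpB chevE6 auxE6 q (ρ q) = true) := fun q hq =>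
          (hgr q hq).elim (fun e => ⟨e.1, .inr e.2⟩) fun e => ⟨e.2, .inl e.1⟩
        have hgl := flat_lt fun q hq => (hgr' q hq).1
        have hgc : Commute (P₆ (flat E.2.2)) (P₆ (flat rest)) := by
          refine Commute.list_prod_right _ _ fun y hy => Commute.list_prod_left _ _ fun z hz => ?_
          obtain ⟨t, ht, rfl⟩ := List.mem_map.1 hy
          obtain ⟨q, hq, rfl⟩ := List.mem_map.1 hz
          exact commute_orth stdE6 hbase (hgl q hq) (hO2.1 t (List.mem_append_right _ ht))
            (hperp' q (List.mem_append_right _ hq) t ht) 1 1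
        have hinvg : (P₆ (flat E.2.2))⁻¹ = P₆ (flat E.2.2).reverse := by
          simp only [P, List.prod_inv_reverse, List.map_reverse, List.map_map]
          congr 2
          refine List.map_congr_left fun q _ => ?_
          simp [xG_inv, CharTwo.neg_eq]
        have hcore : P₆ (flat E.2.2) * P₆ E.1 * (P₆ (flat E.2.2))⁻¹ = P₆ (flat E.2.1) := by
          have e := word_eq_of_check (F := K) stdE6.good (p := 2) heq
          simp only [List.map_map, Function.comp_def, Int.cast_one] at e
          rw [hinvg, ← P_append stdE6, ← P_append stdE6]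
          exact e
        refine Rch.step (P_flat_fix hinv hgr') (z := P₆ (flat (E.2.1 ++ rest))) ?_ ?_
        · rw [P_append stdE6, flat_append, P_append stdE6, ← conj_mul, hcore, hgc.eq, mul_inv_cancel_right]
        · refine ih (flat (E.2.1 ++ rest)).length ?_ _ le_rfl ⟨?_, ?_⟩
          · have := hperm.length_eq
            simp only [List.length_append, flat_append] at this hn ⊢
            omega
          · intro q hq
            rw [flat_append] at hq
            rcases List.mem_append.1 hq with hq | hq
            · exact flat_lt (fun x hx => htr x hx) q hq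
            · exact hO2.1 q (List.mem_append_right _ hq)
          · rw [flat_append]
            exact List.pairwise_append.2 ⟨hto, (List.pairwise_append.1 hO2.2).2.1,
              fun q hq t ht => hperp' q (List.mem_append_left _ hq) t ht⟩
      · -- a representative
        simp only [decide_eq_false hc, cond_false, Bool.and_eq_true, decide_eq_true_eq, sameB, List.all_eq_true,
          List.contains_iff_mem] at hent
        set R' := X.reps.getD (c - 10) []
        have hR' : Orth chevE6 auxE6 (flat R') := by
          have hm' : R' ∈ X.reps := by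
            simp only [R', List.getD_eq_getElem?_getD, List.getElem?_eq_getElem hent.1, Option.getD_some]
            exact List.getElem_mem _
          have := hRo R' hm'
          exact ⟨flat_lt this.1, this.2⟩
        have hMO : Orth chevE6 auxE6 M :=
          ⟨fun q hq => hO'.1 q (List.mem_append_left _ hq), (List.pairwise_append.1 hO'.2).1⟩
        have hperm : (M ++ N).Perm (flat R' ++ N) :=
          ((List.perm_ext_iff_of_nodup (hMO.nodup hbase) (hR'.nodup hbase)).2
            fun a => ⟨hent.2.1 a, hent.2.2 a⟩).append_right N
        rw [P_perm stdE6 hbase hO' hperm, hN, ← flat_append]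
        have hlen' := hperm.length_eq
        refine iht (tl.map f) ?_ (c - 10) hent.1 ?_ ?_
        · simp only [List.length_map]
          simpa using hm
        · simp only [R', flat_append, List.length_append, hN] at hlen' hn ⊢
          omega
        · have := hO'.perm hperm
          rwa [hN, ← flat_append] at this

end CfsgLib.Chev.E62Invol
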