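/-
The table for the involution classes of twisted E6 in characteristic two.
-/
import Cfsg.Agent.Lib.Chev.E62Invol.States

set_option autoImplicit false
set_option maxRecDepth 100000
set_option maxHeartbeats 4000000

namespace CfsgLib.Chev.E62Invol

open Cfsg.Lie CfsgLib.Chev

/-- extensions of state 0 -/
def tab0 : List (ℕ × ℕ × ℕ) :=
  [(71, 11, 0x0), (70, 11, 0x1), (69, 11, 0x21), (68, 12, 0x0),
   (67, 12, 0x4), (66, 12, 0x0), (65, 11, 0x321), (64, 12, 0x34),
   (63, 11, 0x2321), (62, 12, 0x234), (61, 12, 0x3234), (60, 11, 0x12321),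
   (59, 12, 0x1234), (58, 12, 0x31234), (57, 12, 0x231234), (56, 12, 0x3231234),
   (55, 12, 0x4), (54, 12, 0x34), (53, 11, 0x4321), (52, 12, 0x234),
   (51, 11, 0x42321), (50, 12, 0x43234), (49, 12, 0x3234), (48, 12, 0x43234),
   (47, 11, 0x342321), (46, 11, 0x2342321), (45, 12, 0x1234), (44, 11, 0x412321),
   (43, 12, 0x431234), (42, 12, 0x4231234), (41, 12, 0x31234), (40, 12, 0x431234),
   (39, 11, 0x3412321), (38, 12, 0x231234), (37, 12, 0x4231234), (36, 12, 0x3231234),
   (35, 12, 0x43231234), (34, 12, 0x34231234), (33, 12, 0x343231234), (32, 11, 0x23412321),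
   (31, 12, 0x234231234), (30, 12, 0x2343231234), (29, 12, 0x34231234), (28, 12, 0x234231234),
   (27, 11, 0x323412321), (26, 12, 0x32343231234), (25, 11, 0x12342321), (24, 11, 0x123412321),
   (23, 12, 0x1234231234), (22, 12, 0x12343231234), (21, 12, 0x1234231234), (20, 11, 0x3123412321),
   (19, 12, 0x312343231234), (18, 11, 0x23123412321), (17, 12, 0x2312343231234), (16, 12, 0x32312343231234),
   (15, 12, 0x43231234), (14, 12, 0x343231234), (13, 12, 0x2343231234), (12, 12, 0x32343231234),
   (11, 11, 0x4323412321), (10, 12, 0x12343231234), (9, 12, 0x312343231234), (8, 11, 0x43123412321),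
   (7, 12, 0x2312343231234), (6, 11, 0x423123412321), (5, 12, 0x432312343231234), (4, 12, 0x32312343231234),
   (3, 12, 0x432312343231234), (2, 11, 0x3423123412321), (1, 11, 0x23423123412321), (0, 11, 0x123423123412321)]

/-- extensions of state 1 -/
def tab1 : List (ℕ × ℕ × ℕ) :=
  [(60, 13, 0x0), (59, 14, 0x0), (58, 14, 0x3), (57, 14, 0x23),
   (56, 14, 0x323), (45, 14, 0x0), (44, 13, 0x4), (43, 14, 0x43),
   (42, 14, 0x423), (41, 14, 0x3), (40, 14, 0x43), (39, 13, 0x34),
   (38, 14, 0x23), (37, 14, 0x423), (36, 14, 0x323), (35, 14, 0x4323),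
   (34, 14, 0x3423), (33, 14, 0x34323), (32, 13, 0x234), (31, 14, 0x23423),
   (30, 14, 0x234323), (29, 14, 0x3423), (28, 14, 0x23423), (27, 13, 0x3234),
   (26, 14, 0x3234323), (15, 14, 0x4323), (14, 14, 0x34323), (13, 14, 0x234323),
   (12, 14, 0x3234323), (11, 13, 0x43234)]

/-- extensions of state 2 -/
def tab2 : List (ℕ × ℕ × ℕ) :=
  [(53, 14, 0x4321), (51, 14, 0x42321), (47, 14, 0x342321), (46, 14, 0x2342321),
   (44, 14, 0x412321), (39, 14, 0x3412321), (32, 14, 0x23412321), (27, 14, 0x323412321),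
   (25, 14, 0x12342321), (24, 14, 0x123412321), (20, 14, 0x3123412321), (18, 14, 0x23123412321)]

/-- extensions of state 3 -/
def tab3 : List (ℕ × ℕ × ℕ) :=
  [(44, 15, 0x0), (43, 0, 0x0), (42, 0, 0x2), (40, 0, 0x0),
   (39, 15, 0x3), (37, 0, 0x2), (34, 0, 0x32), (32, 15, 0x23),
   (31, 0, 0x232), (29, 0, 0x32), (28, 0, 0x232), (27, 15, 0x323)]

/-- extensions of state 4 -/
def tab4 : List (ℕ × ℕ × ℕ) :=
  [(39, 0, 0x34), (32, 0, 0x234)]

/-- extensions of state 5 -/
def tab5 : List (ℕ × ℕ × ℕ) :=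
  [(39, 1, 0x0), (32, 1, 0x2)]

/-- the data -/
def data : Data where
  reps := [[], [71], [68], [71, 60], [71, 59], [71, 60, 44]]
  tab := [tab0, tab1, tab2, tab3, tab4, tab5]
  bads := [([71, 60, 43, 40], [40, 71], [63, 25, 21]), ([71, 60, 44, 39], [44, 60, 71], [47, 25, 20, 8])]

theorem reps_ok : repsB data = true := by decide +kernel

theorem bads_ok : badsB data = true := by decide +kernel

theorem lev0 : levelB data 0 = true := by decide +kernel

theorem lev1 : levelB data 1 = true := by decide +kernel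

theorem lev2 : levelB data 2 = true := by decide +kernel

theorem lev3 : levelB data 3 = true := by decide +kernel

theorem lev4 : levelB data 4 = true := by decide +kernel

theorem lev5 : levelB data 5 = true := by decide +kernel

/-- all checks -/
theorem checked : Checked data where
  reps := reps_ok
  bads := bads_ok
  tab := fun k hk => match k, hk with
    | 0, _ => lev0
    | 1, _ => lev1
    | 2, _ => lev2
    | 3, _ => lev3
    | 4, _ => lev4
    | 5, _ => lev5
    | k + 6, hk => absurd hk (by simp [data])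

end CfsgLib.Chev.E62Invol
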