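/-
The three classes of involutions of twisted E6 in even characteristic.
-/
import Cfsg.Agent.Lib.Chev.E62Invol.Table
import Cfsg.Agent.Lib.Chev.E62Invol.RankCert
import Cfsg.Agent.Lib.Chev.SLInvol.E6Rank

set_option autoImplicit false
set_option maxRecDepth 100000
set_option maxHeartbeats 1000000

namespace CfsgLib.Chev.E62Invol

open Cfsg.Lie Matrix CfsgLib.Chev CfsgLib.Chev.SLInv

variable {K : Type*} [Field K] [CharP K 2] {σ : K →+* K}

local notation "X" => xG (Std.good stdE6)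
local notation "Gσ" => Twist.fix (E62.tw σ)
local notation "P₆" => P (F := K) (Std.good stdE6)

omit [CharP K 2] in
lemma P_orbL (r : ℕ) : P₆ (orbL r) = Ob σ r 1 := by
  unfold orbL Ob
  split_ifs <;> simp [P, map_one]

lemma P_flat (R : List ℕ) : P₆ (flat R) = (R.map fun r => Ob σ r 1).prod := by
  induction R with
  | nil => rfl
  | cons r R ih => rw [flat_cons, P_append stdE6, ih, P_orbL, List.map_cons, List.prod_cons]

lemma perpB_of_ip {a b : ℕ} (ha : chevE6.IsPosRoot a) (hb : chevE6.IsPosRoot b) (e : ipE a b = 0) :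
    perpB chevE6 auxE6 a b = true := by
  simp only [perpB, Bool.and_eq_true, decide_eq_true_eq]
  rw [← ip_eq_pr SLInv.E6.checked ha.1, ← ip_eq_pr SLInv.E6.checked hb.1]
  exact ⟨by rw [std_facts.symm b a hb ha]; exact e, e⟩

lemma orth_of_pairwise {R : List ℕ} (hR : ∀ r ∈ R, chevE6.IsPosRoot r) (hp : R.Pairwise Both) :
    Orth chevE6 auxE6 (flat R) := by
  induction R with
  | nil => exact ⟨by simp [flat], by simp [flat]⟩
  | cons r R ih =>
    obtain ⟨h1, h2⟩ := List.pairwise_cons.1 hp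
    have hr := hR r List.mem_cons_self
    obtain ⟨i1, i2⟩ := ih (fun x hx => hR x (List.mem_cons_of_mem _ hx)) h2
    refine ⟨flat_lt fun x hx => (hR x hx).1, ?_⟩
    rw [flat_cons]
    refine List.pairwise_append.2 ⟨?_, i2, fun a ha b hb => ?_⟩
    · unfold orbL
      split_ifs with h
      · simp
      · simpa using perpB_of_ip hr (rho_pos hr) (pair_ip hr h)
    · obtain ⟨x, hx, hb⟩ := mem_flat.1 hb
      have hxp := hR x (List.mem_cons_of_mem _ hx)
      obtain ⟨e1, e2⟩ := h1 x hx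
      obtain ⟨e1', e2'⟩ := both_rho hr hxp ⟨e1, e2⟩
      rcases mem_orbL.1 ha with rfl | rfl <;> rcases hb with rfl | rfl
      exacts [perpB_of_ip hr hxp e1, perpB_of_ip hr (rho_pos hxp) e1', perpB_of_ip (rho_pos hr) hxp e2,
        perpB_of_ip (rho_pos hr) (rho_pos hxp) e2']

lemma maps_nG' {r : ℕ} (hr : r < chevE6.nroots) (c : K) :
    (E62.tw σ).Maps (nG stdE6.good r c) (nG stdE6.good (ρ r) (σ c)) := by
  have g := stdE6.good
  have h1 := maps_X (σ := σ) hr c
  have h2 := maps_X (σ := σ) (g.neg_lt _ hr) (-c⁻¹)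
  rw [(rho_spec hr).2.2.1, map_neg, map_inv₀] at h2
  unfold nG
  rw [g.neg_eq _ hr, g.neg_eq _ (rho_spec hr).1]
  exact Twist.Maps.mul _ (Twist.Maps.mul _ h1 h2) h1

lemma maps_hG {r : ℕ} (hr : r < chevE6.nroots) (c : K) :
    (E62.tw σ).Maps (hG stdE6.good r c) (hG stdE6.good (ρ r) (σ c)) := by
  have := Twist.Maps.mul _ (maps_nG' (σ := σ) hr c) (maps_nG' (σ := σ) hr (-1))
  rwa [map_neg, map_one] at this

lemma hG_comm {r s : ℕ} (hr : r < chevE6.nroots) (hs : s < chevE6.nroots) (u v : Kˣ) :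
    Commute (hG stdE6.good r (u : K)) (hG stdE6.good s (v : K)) := by
  rw [hG_eq_tor stdE6.good hr, hG_eq_tor stdE6.good hs]
  exact (Commute.all _ _).map (tor chevE6 auxE6)

lemma hG_scale {r t : ℕ} (hr : r < chevE6.nroots) (ht : t < chevE6.nroots) {s : K} (hs : s ≠ 0) (u : K) :
    hG stdE6.good r s * X t u * (hG stdE6.good r s)⁻¹ = X t (s ^ prL chevE6 auxE6 r t * u) := by
  rw [mul_inv_eq_iff_eq_mul, prL_eq]
  apply Units.ext
  simp only [Units.val_mul, hG_val, xG_val]
  exact hMat_mul_x stdE6.good hr ht hs u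

variable [Fintype K]

/-- rescaling to coefficient one -/
lemma scale_one (hinv : ∀ a, σ (σ a) = a) : ∀ {L : List (ℕ × K)},
    (∀ p ∈ L, chevE6.IsPosRoot p.1 ∧ p.2 ≠ 0 ∧ Coef σ p.1 p.2) → L.Pairwise (fun a b => Both a.1 b.1) →
    ∃ g ∈ Gσ, g * (L.map fun p => Ob σ p.1 p.2).prod * g⁻¹ = P₆ (flat (L.map Prod.fst)) ∧
      ∀ t, chevE6.IsPosRoot t → (∀ p ∈ L, Both p.1 t) → Commute g (Ob σ t 1) := by
  intro L
  induction L with
  | nil => exact fun _ _ => ⟨1, one_mem _, by simp [flat, P], fun t _ _ => Commute.one_left _⟩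
  | cons p L ih =>
    intro hL hp
    obtain ⟨hoL, hOL⟩ := List.pairwise_cons.1 hp
    obtain ⟨ho, hne, hcf⟩ := hL p List.mem_cons_self
    obtain ⟨o, c⟩ := p
    dsimp only at ho hne hcf hoL
    obtain ⟨s, hs⟩ : ∃ s : K, s * s = c⁻¹ := by
      obtain ⟨d, hd⟩ := isSquare_of_charTwo' (c⁻¹ : K)
      exact ⟨d, hd.symm⟩
    have hs0 : s ≠ 0 := fun e => inv_ne_zero hne (by rw [← hs, e, mul_zero])
    have hσs0 : σ s ≠ 0 := (map_ne_zero σ).2 hs0
    have ho' := rho_pos ho
    have hsf : ρ o = o → σ s = s := fun h => by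
      have h2 : σ s * σ s = s * s := by rw [← map_mul, hs, map_inv₀, hcf h]
      rcases mul_self_eq_mul_self_iff.1 h2 with e | e
      · exact e
      · rwa [CharTwo.neg_eq] at e
    have hself : ∀ {a : ℕ}, chevE6.IsPosRoot a → prL chevE6 auxE6 a a = 2 := fun {a} ha => by
      rw [← ip_eq_pr SLInv.E6.checked ha.1]; exact std_facts.self a ha
    set k : GL chevE6.Idx K :=
      if ρ o = o then hG stdE6.good o s else hG stdE6.good o s * hG stdE6.good (ρ o) (σ s) with hkdef
    have hkf : k ∈ Gσ := by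
      rw [Twist.mem_fix, hkdef]
      split_ifs with h
      · have := maps_hG (σ := σ) ho.1 s
        rwa [h, hsf h] at this
      · have := Twist.Maps.mul _ (maps_hG (σ := σ) ho.1 s) (maps_hG (σ := σ) ho'.1 (σ s))
        rw [(rho_spec ho.1).2.1, hinv] at this
        have hc := hG_comm ho'.1 ho.1 (Units.mk0 _ hσs0) (Units.mk0 _ hs0)
        simp only [Units.val_mk0] at hc
        rwa [hc.eq] at this
    have hk : ∀ t, chevE6.IsPosRoot t → ∀ u : K, k * X t u * k⁻¹ =
        if ρ o = o then X t (s ^ prL chevE6 auxE6 o t * u)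
        else X t (s ^ prL chevE6 auxE6 o t * (σ s ^ prL chevE6 auxE6 (ρ o) t * u)) := by
      intro t ht u
      rw [hkdef]
      split_ifs with h
      · exact hG_scale ho.1 ht.1 hs0 u
      · rw [show hG stdE6.good o s * hG stdE6.good (ρ o) (σ s) * X t u *
          (hG stdE6.good o s * hG stdE6.good (ρ o) (σ s))⁻¹ = hG stdE6.good o s *
            (hG stdE6.good (ρ o) (σ s) * X t u * (hG stdE6.good (ρ o) (σ s))⁻¹) * (hG stdE6.good o s)⁻¹ by group,
          hG_scale ho'.1 ht.1 hσs0, hG_scale ho.1 ht.1 hs0]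
    have hk0 : ∀ t, chevE6.IsPosRoot t → Both o t → ∀ a : K, k * Ob σ t a * k⁻¹ = Ob σ t a := by
      intro t ht hb a
      have key : ∀ x, chevE6.IsPosRoot x → Both o x → ∀ u : K, k * X x u * k⁻¹ = X x u := by
        intro x hx hbx u
        rw [hk x hx, ← ip_eq_pr SLInv.E6.checked ho.1, ← ip_eq_pr SLInv.E6.checked ho'.1, std_facts.symm x o hx ho,
          std_facts.symm x _ hx ho', hbx.1, hbx.2]
        simp
      unfold Ob
      split_ifs
      · exact key t ht hb a
      · rw [← conj_mul, key t ht hb a, key _ (rho_pos ht) (both_rho ho ht hb)]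
    obtain ⟨g, hg, hge, hgc⟩ := ih (fun p hp' => hL p (List.mem_cons_of_mem _ hp')) hOL
    refine ⟨g * k, mul_mem hg hkf, ?_, fun t ht e => ?_⟩
    · have h2 : k * Ob σ o c * k⁻¹ = Ob σ o 1 := by
        by_cases h : ρ o = o
        · simp only [Ob, if_pos h]
          rw [hk o ho, if_pos h, hself ho, zpow_two, hs, inv_mul_cancel₀ hne]
        · simp only [Ob, if_neg h]
          have e0 : prL chevE6 auxE6 (ρ o) o = 0 := by
            rw [← ip_eq_pr SLInv.E6.checked ho'.1, pair_ip ho h]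
          have e0' : prL chevE6 auxE6 o (ρ o) = 0 := by
            rw [← ip_eq_pr SLInv.E6.checked ho.1, std_facts.symm _ _ ho' ho, pair_ip ho h]
          rw [← conj_mul, hk o ho, hk _ ho', if_neg h, if_neg h, hself ho, hself ho', e0, e0', zpow_zero,
            zpow_zero, one_mul, one_mul, zpow_two, zpow_two, hs, ← map_mul σ s s, hs, ← map_mul,
            inv_mul_cancel₀ hne]
      have h3 : k * (L.map fun p => Ob σ p.1 p.2).prod * k⁻¹ = (L.map fun p => Ob σ p.1 p.2).prod := by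
        rw [← MulAut.conj_apply, map_list_prod, List.map_map]
        refine congrArg List.prod (List.map_congr_left fun p hp' => ?_)
        exact hk0 p.1 (hL p (List.mem_cons_of_mem _ hp')).1 (hoL p hp') p.2
      have h4 : g * Ob σ o 1 = Ob σ o 1 * g := hgc o ho fun p hp' => by
        have hpr := (hL p (List.mem_cons_of_mem _ hp')).1
        obtain ⟨e1, e2⟩ := hoL p hp'
        refine ⟨by rw [std_facts.symm p.1 o hpr ho]; exact e1, ?_⟩
        rw [ip_rho_left hpr ho, std_facts.symm _ _ hpr (rho_pos ho)]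
        exact e2
      rw [List.map_cons, List.map_cons, List.prod_cons, flat_cons, P_append stdE6, P_orbL (σ := σ),
        show g * k * (Ob σ o c * (L.map fun p => Ob σ p.1 p.2).prod) * (g * k)⁻¹ =
          g * ((k * Ob σ o c * k⁻¹) * (k * (L.map fun p => Ob σ p.1 p.2).prod * k⁻¹)) * g⁻¹ by group, h2, h3,
        ← hge, ← mul_assoc g, h4]
      group
    · refine Commute.mul_left (hgc t ht fun p hp' => e p (List.mem_cons_of_mem _ hp')) ?_
      exact mul_inv_eq_iff_eq_mul.1 (hk0 t ht (e (o, c) List.mem_cons_self) 1)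

/-- the representatives -/
def reps : List (List ℕ) := [[], [71], [68], [71, 59]]

omit [Fintype K] in
/-- the two auxiliary states reduce to representatives -/
lemma merge (hB : Base σ) : Rch σ ⟨reps, [], []⟩ (P₆ (flat [71, 60])) ∧
    Rch σ ⟨reps, [], []⟩ (P₆ (flat [71, 60, 44])) := by
  obtain ⟨e, he⟩ := hB.tr
  have hbase := SLInv.E6.base_ok
  have hc := fun {a b : ℕ} (h : perpB chevE6 auxE6 a b = true ∧ a < chevE6.nroots ∧ b < chevE6.nroots) (t u : K) =>
    commute_orth (F := K) stdE6 hbase h.2.1 h.2.2 h.1 t u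
  set g₁ : GL chevE6.Idx K := P₆ (flat [21])
  have hg₁ : g₁ ∈ Gσ := P_flat_fix hB.hinv (by decide +kernel)
  have hw : g₁ * P₆ (flat [71, 60]) * g₁ = P₆ (flat [71, 68]) := by
    have hh := word_eq_of_check (F := K) stdE6.good (p := 2)
      (w := (flat [21] ++ flat [71, 60] ++ flat [21]).map fun r => (r, 1)) (w' := (flat [71, 68]).map fun r => (r, 1))
      (by decide +kernel)
    simp only [List.map_map, Function.comp_def, Int.cast_one] at hh
    simp only [g₁, ← P_append stdE6]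
    exact hh
  have hg₁i : g₁⁻¹ = g₁ := by
    refine inv_eq_of_mul_eq_one_right ?_
    have hh := word_eq_of_check (F := K) stdE6.good (p := 2)
      (w := (flat [21] ++ flat [21]).map fun r => (r, 1)) (w' := []) (by decide +kernel)
    simp only [List.map_map, Function.comp_def, Int.cast_one, List.map_nil, List.prod_nil] at hh
    simp only [g₁, ← P_append stdE6]
    exact hh
  set g₂ := Ob σ 48 e
  have hr : chevE6.IsPosRoot 48 ∧ chevE6.IsPosRoot 71 ∧ chevE6.IsPosRoot 68 ∧ ρ 48 = 50 ∧ ρ 68 = 66 ∧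
      ρ 71 = 71 ∧ chevE6.IsPosRoot 50 ∧ chevE6.IsPosRoot 66 := by
    have h : ∀ r ∈ [48, 71, 68, 50, 66], r < chevE6.nroots ∧ posB chevE6 auxE6 r = true := by decide +kernel
    have hp := fun r hr => (posB_iff stdE6.good (h r hr).1).1 (h r hr).2
    exact ⟨hp 48 (by simp), hp 71 (by simp), hp 68 (by simp), by decide +kernel, by decide +kernel,
      by decide +kernel, hp 50 (by simp), hp 66 (by simp)⟩
  obtain ⟨p48, p71, p68, r48, r68, r71, p50, p66⟩ := hr
  have hg₂ : g₂ ∈ Gσ := Ob_fix hB.hinv p48 fun h => by rw [r48] at h; omega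
  have hip : ipE 68 48 = -1 ∧ sumI auxE6 68 48 = 71 ∧ ipE 66 48 ≠ -1 ∧ ipE 66 50 = -1 ∧ sumI auxE6 66 50 = 71 ∧
      ipE 68 50 ≠ -1 ∧ ipE 71 48 ≠ -1 ∧ ipE 71 50 ≠ -1 := by decide +kernel
  obtain ⟨i1, i2, i3, i4, i5, i6, i7, i8⟩ := hip
  have hkill : g₂ * P₆ (flat [68]) * g₂⁻¹ = P₆ (flat [71, 68]) := by
    simp only [g₂, flat, List.flatMap_cons, List.flatMap_nil, List.append_nil, orbL, r68, r71, Ob, r48, P,
      show (66 : ℕ) ≠ 68 by decide, show (50 : ℕ) ≠ 48 by decide, if_false, if_true, List.cons_append,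
      List.nil_append, List.map_cons, List.map_nil, List.prod_cons, List.prod_nil, mul_one]
    rw [show X 48 e * X 50 (σ e) * (X 68 1 * X 66 1) * (X 48 e * X 50 (σ e))⁻¹ =
      (X 48 e * (X 50 (σ e) * X 68 1 * (X 50 (σ e))⁻¹) * (X 48 e)⁻¹) *
        (X 48 e * (X 50 (σ e) * X 66 1 * (X 50 (σ e))⁻¹) * (X 48 e)⁻¹) by group,
      conj_miss p50 p68 i6, conj_hit p48 p68 i1 i2, conj_hit p50 p66 i4 i5, ← conj_mul, conj_miss p48 p66 i3,
      conj_miss p48 p71 i7, one_mul, one_mul]
    rw [show X 68 1 * X 71 e * (X 66 1 * X 71 (σ e)) = X 68 1 * (X 71 e * X 66 1) * X 71 (σ e) by group,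
      (commute_perp stdE6 std_facts p71 p66 (by decide +kernel) e 1).eq]
    simp only [mul_assoc]
    rw [xG_add, he, (commute_perp stdE6 std_facts p66 p71 (by decide +kernel) 1 1).eq, ← mul_assoc,
      (commute_perp stdE6 std_facts p68 p71 (by decide +kernel) 1 1).eq, mul_assoc]
  have hgo : g₂⁻¹ * g₁ ∈ Gσ := mul_mem (inv_mem hg₂) hg₁
  have e3 : g₂⁻¹ * g₁ * P₆ (flat [71, 60]) * (g₂⁻¹ * g₁)⁻¹ = P₆ (flat [68]) := by
    rw [show g₂⁻¹ * g₁ * P₆ (flat [71, 60]) * (g₂⁻¹ * g₁)⁻¹ =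
      g₂⁻¹ * (g₁ * P₆ (flat [71, 60]) * g₁⁻¹) * g₂ by group, hg₁i, hw, ← hkill]
    group
  refine ⟨⟨2, by decide, _, hgo, e3⟩, ?_⟩
  have h44 : Commute (g₂⁻¹ * g₁) (P₆ (flat [44])) := by
    have e44 : ρ 44 = 44 := by decide +kernel
    have c1 : Commute g₁ (P₆ (flat [44])) := by
      refine Commute.list_prod_right _ _ fun y hy => Commute.list_prod_left _ _ fun z hz => ?_
      obtain ⟨t, ht, rfl⟩ := List.mem_map.1 hy
      obtain ⟨s, hs, rfl⟩ := List.mem_map.1 hz
      have h : ∀ t ∈ flat [44], ∀ s ∈ flat [21], perpB chevE6 auxE6 s t = true ∧ s < chevE6.nroots ∧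
          t < chevE6.nroots := by decide +kernel
      exact hc (h t ht s hs) 1 1
    have c2 : Commute g₂ (P₆ (flat [44])) := by
      simp only [g₂, Ob, r48, show (50 : ℕ) ≠ 48 by decide, if_false, flat, List.flatMap_cons, List.flatMap_nil,
        List.append_nil, orbL, e44, if_true, P, List.map_cons, List.map_nil, List.prod_cons, List.prod_nil, mul_one]
      exact (hc (by decide +kernel) e 1).mul_left (hc (by decide +kernel) (σ e) 1)
    exact c2.inv_left.mul_left c1
  set code : ℕ := 0x412321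
  refine ⟨3, by decide, nW K stdE6.good (word code) * (g₂⁻¹ * g₁), mul_mem ((E62.tw σ).nFlat_fix (by decide +kernel)) hgo, ?_⟩
  have e4 : g₂⁻¹ * g₁ * P₆ (flat [71, 60, 44]) * (g₂⁻¹ * g₁)⁻¹ = P₆ (flat [68, 44]) := by
    rw [show flat [71, 60, 44] = flat [71, 60] ++ flat [44] from flat_append [71, 60] [44],
      show flat [68, 44] = flat [68] ++ flat [44] from flat_append [68] [44], P_append stdE6, P_append stdE6,
      ← conj_mul, e3, h44.eq, mul_inv_cancel_right]
  rw [show nW K stdE6.good (word code) * (g₂⁻¹ * g₁) * P₆ (flat [71, 60, 44]) *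
    (nW K stdE6.good (word code) * (g₂⁻¹ * g₁))⁻¹ = nW K stdE6.good (word code) *
      (g₂⁻¹ * g₁ * P₆ (flat [71, 60, 44]) * (g₂⁻¹ * g₁)⁻¹) * (nW K stdE6.good (word code))⁻¹ by group, e4,
    P_map stdE6 (word_letters (by decide +kernel)) (by decide +kernel)]
  refine P_perm stdE6 hbase ⟨by decide +kernel, by decide +kernel⟩ ?_
  decide +kernel

omit [Fintype K] in
lemma base_of (hinv : ∀ a, σ (σ a) = a) (hne : ∃ a, σ a ≠ a) : Base σ := by
  obtain ⟨a, ha⟩ := hne
  refine ⟨hinv, a / (a + σ a), ?_⟩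
  have h : a + σ a ≠ 0 := fun e => ha (CharTwo.add_eq_zero.1 e).symm
  rw [map_div₀, map_add, hinv, add_comm (σ a), ← add_div, div_self h]

lemma rep_ranks : ∀ k < reps.length,
    (((P₆ (flat (reps.getD k [])) : GL chevE6.Idx K) : Matrix chevE6.Idx chevE6.Idx K) - 1).rank =
      [0, 22, 32, 38].getD k 0 := by
  intro k hk
  have h1 : flat [71] = [71] := by decide +kernel
  have h2 : flat [68] = [68, 66] := by decide +kernel
  have h3 : flat [71, 59] = [71, 59, 45] := by decide +kernel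
  match k, hk with
  | 0, _ => simp [reps, flat, P, Matrix.rank_zero]
  | 1, _ => show (((P₆ (flat [71]) : GL chevE6.Idx K) : Matrix chevE6.Idx chevE6.Idx K) - 1).rank = 22
            rw [h1]; exact rank_of_cert stdE6 SLInv.E6.cert1_ok
  | 2, _ => show (((P₆ (flat [68]) : GL chevE6.Idx K) : Matrix chevE6.Idx chevE6.Idx K) - 1).rank = 32
            rw [h2]; exact rank_of_cert stdE6 SLInv.E6.cert2_ok
  | 3, _ => show (((P₆ (flat [71, 59]) : GL chevE6.Idx K) : Matrix chevE6.Idx chevE6.Idx K) - 1).rank = 38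
            rw [h3]; exact rank_of_cert stdE6 cert3_ok
  | k + 4, hk => exact absurd hk (by simp [reps])

lemma rep_fix (hinv : ∀ a, σ (σ a) = a) {k : ℕ} (hk : k < reps.length) :
    P₆ (flat (reps.getD k [])) ∈ Gσ ∧ P₆ (flat (reps.getD k [])) * P₆ (flat (reps.getD k [])) = 1 := by
  have h : ∀ k < reps.length, (∀ r ∈ reps.getD k [], r < chevE6.nroots ∧
      (ρ r = r ∨ perpB chevE6 auxE6 r (ρ r) = true)) ∧ wordEqCheck chevE6 auxE6 2
        ((flat (reps.getD k []) ++ flat (reps.getD k [])).map fun r => (r, 1)) [] = true := by decide +kernel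
  refine ⟨P_flat_fix hinv (h k hk).1, ?_⟩
  have hh := word_eq_of_check (F := K) stdE6.good (p := 2) (h k hk).2
  simp only [List.map_map, Function.comp_def, Int.cast_one, List.map_nil, List.prod_nil] at hh
  rw [← P_append stdE6]
  exact hh

variable {q : ℕ}

/-- every involution of the fixed group is conjugate into the unipotent subgroup -/
theorem cj_into_pos (hσ : ∀ x, σ x = x ^ q) (hK : Fintype.card K = q ^ 2) {y : GL chevE6.Idx K}
    (hy : y ∈ Gσ) (h2 : orderOf y = 2) : ∃ k ∈ Gσ, k * y * k⁻¹ ∈ chevE6.posUnipotent K := by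
  classical
  haveI : Fact (Nat.Prime 2) := ⟨Nat.prime_two⟩
  haveI : Finite (GL chevE6.Idx K) := finite_GL
  obtain ⟨hU, hG⟩ := E62.orders hσ hK
  obtain ⟨n, -, hn⟩ := FiniteField.card K 2
  obtain ⟨b, -, rfl⟩ := (Nat.dvd_prime_pow Nat.prime_two).1 (hn ▸ hK ▸ dvd_pow_self q two_ne_zero)
  have hb : b ≠ 0 := fun e => by
    subst e
    have := E62.two_le hK
    omega
  set U : Subgroup ↥(Gσ) := (chevE6.posUnipotent K ⊓ Gσ).subgroupOf Gσ
  have hUc : Nat.card U = (2 ^ b) ^ 36 := by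
    rw [Nat.card_congr (Subgroup.subgroupOfEquivOfLe inf_le_right).toEquiv, hU]
  have hidx : ¬ 2 ∣ U.index := by
    have h1 := U.card_mul_index
    rw [hUc] at h1
    rw [← h1, mul_left_comm, mul_assoc, mul_assoc, mul_assoc, mul_assoc, mul_assoc] at hG
    have h2' := Nat.eq_of_mul_eq_mul_left (pow_pos (pow_pos two_pos b) 36) hG
    intro hdvd
    have hev := h2' ▸ hdvd.mul_left (Nat.gcd 3 (2 ^ b + 1))
    have he : ∀ a, a ≠ 0 → 2 ∣ (2 ^ b) ^ a := fun a ha => dvd_pow (dvd_pow_self 2 hb) ha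
    have hp : ∀ a, 0 < (2 ^ b) ^ a := fun a => pow_pos (pow_pos two_pos b) a
    have d1 : ∀ a, a ≠ 0 → ¬ 2 ∣ ((2 ^ b) ^ a - 1) := fun a ha => by
      have := he a ha; have := hp a; omega
    have d2 : ∀ a, a ≠ 0 → ¬ 2 ∣ ((2 ^ b) ^ a + 1) := fun a ha => by
      have := he a ha; omega
    exact Nat.Prime.not_dvd_mul Nat.prime_two (d1 2 (by decide)) (Nat.Prime.not_dvd_mul Nat.prime_two
      (d2 5 (by decide)) (Nat.Prime.not_dvd_mul Nat.prime_two (d1 6 (by decide))
      (Nat.Prime.not_dvd_mul Nat.prime_two (d1 8 (by decide)) (Nat.Prime.not_dvd_mul Nat.prime_two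
      (d2 9 (by decide)) (d1 12 (by decide)))))) hev
  let S₀ : Sylow 2 ↥(Gσ) := (IsPGroup.of_card (n := b * 36) (by rw [hUc, ← pow_mul])).toSylow hidx
  set z : ↥(Gσ) := ⟨y, hy⟩
  have hz : IsPGroup 2 (Subgroup.zpowers z) := IsPGroup.of_card (n := 1) (by
    rw [Nat.card_zpowers, pow_one]
    exact (Subgroup.orderOf_mk y hy).trans h2)
  obtain ⟨S, hS⟩ := hz.exists_le_sylow
  obtain ⟨k, hk⟩ := MulAction.exists_smul_eq ↥(Gσ) S S₀
  have h3 : k * z * k⁻¹ ∈ U := by
    have h4 : (S₀ : Subgroup ↥(Gσ)) = U := rfl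
    rw [← h4, ← hk, Sylow.coe_subgroup_smul]
    exact ⟨z, hS (Subgroup.mem_zpowers z), rfl⟩
  exact ⟨k, k.2, (Subgroup.mem_inf.1 (Subgroup.mem_subgroupOf.1 h3)).1⟩

/-- exactly three classes of involutions -/
theorem class_count (hσ : ∀ x, σ x = x ^ q) (hK : Fintype.card K = q ^ 2) :
    (ConjClasses.mk '' {g : ↥(Gσ) | orderOf g = 2}).ncard = 3 := by
  classical
  haveI : Finite (GL chevE6.Idx K) := finite_GL
  have hinv := E62.invol hσ hK
  have hne : ∃ a, σ a ≠ a := by
    by_contra hall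
    simp only [not_exists, not_not] at hall
    have hq := E62.two_le hK
    have h1 := card_pow_fixed (k := 2) two_ne_zero hq hK
    rw [Nat.card_congr (Equiv.subtypeUnivEquiv fun a => by rw [← hσ]; exact hall a), Nat.card_eq_fintype_card,
      hK] at h1
    nlinarith
  have hB := base_of hinv hne
  let rep : Fin 3 → ↥(Gσ) := fun i => ⟨P₆ (flat (reps.getD (i.val + 1) [])),
    (rep_fix hinv (show i.val + 1 < reps.length by simp [reps]; omega)).1⟩
  have hrep2 : ∀ i, orderOf (rep i) = 2 := by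
    intro i
    have hi : i.val + 1 < reps.length := by simp [reps]; omega
    rw [← Subgroup.orderOf_coe]
    refine orderOf_eq_prime_iff.2 ⟨by rw [sq]; exact (rep_fix hinv hi).2, fun e => ?_⟩
    have h := rep_ranks (K := K) _ hi
    change P₆ (flat (reps.getD (i.val + 1) [])) = 1 at e
    rw [e, Units.val_one, sub_self, Matrix.rank_zero] at h
    revert h
    fin_cases i <;> simp
  have himg : ConjClasses.mk '' {g : ↥(Gσ) | orderOf g = 2} = Set.range (ConjClasses.mk ∘ rep) := by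
    refine Set.Subset.antisymm ?_ ?_
    · rintro _ ⟨g, hg, rfl⟩
      have hg2 : orderOf (g : GL chevE6.Idx K) = 2 := (Subgroup.orderOf_coe g).trans hg
      obtain ⟨a, ha, hU⟩ := cj_into_pos hσ hK g.2 hg2
      have hgg : (g : GL chevE6.Idx K) * g = 1 := by rw [← sq, ← hg2, pow_orderOf_eq_one]
      obtain ⟨b, hb, L, hL, hp, heb⟩ := orbit_reduce hB hU (mul_mem (mul_mem ha g.2) (inv_mem ha))
        (by rw [conj_mul, hgg, mul_one, mul_inv_cancel])
      obtain ⟨c, hc, hec, -⟩ := scale_one hinv hL hp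
      have hO : Orth chevE6 auxE6 (flat (L.map Prod.fst)) := orth_of_pairwise (fun r hr => by
        obtain ⟨p, hp', rfl⟩ := List.mem_map.1 hr
        exact (hL p hp').1) (List.pairwise_map.2 hp)
      obtain ⟨k, hk, d, hd, hed⟩ := reach (σ := σ) hinv checked hO
      have hfin : Rch σ ⟨reps, [], []⟩ (P₆ (flat (data.reps.getD k []))) := by
        obtain ⟨m1, m2⟩ := merge hB
        have hk6 : k < 6 := hk
        interval_cases k
        · exact ⟨0, by decide, 1, one_mem _, by simp [data, reps]⟩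
        · exact ⟨1, by decide, 1, one_mem _, by simp [data, reps]⟩
        · exact ⟨2, by decide, 1, one_mem _, by simp [data, reps]⟩
        · exact m1
        · exact ⟨3, by decide, 1, one_mem _, by simp [data, reps]⟩
        · exact m2
      obtain ⟨j, hj, f, hf, hef⟩ := hfin
      have hmem : f * (d * (c * (b * a))) ∈ Gσ := mul_mem hf (mul_mem hd (mul_mem hc (mul_mem hb ha)))
      have hall : f * (d * (c * (b * a))) * (g : GL chevE6.Idx K) * (f * (d * (c * (b * a))))⁻¹ =
          P₆ (flat (reps.getD j [])) := by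
        rw [← hef, ← hed, ← hec, ← heb]
        group
      have hj4 : j < 4 := hj
      have hj0 : j ≠ 0 := by
        rintro rfl
        rw [show P₆ (flat (reps.getD 0 [])) = 1 by simp [reps, flat, P], conj_eq_one_iff] at hall
        rw [hall, orderOf_one] at hg2
        omega
      refine ⟨⟨j - 1, by omega⟩, Eq.symm (ConjClasses.mk_eq_mk_iff_isConj.2 (isConj_iff.2 ⟨⟨_, hmem⟩, ?_⟩))⟩
      apply Subtype.ext
      simp only [rep, Nat.sub_add_cancel (Nat.one_le_iff_ne_zero.2 hj0)]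
      exact hall
    · rintro _ ⟨i, rfl⟩
      exact ⟨rep i, hrep2 i, rfl⟩
  rw [himg, Set.ncard_range_of_injective, Nat.card_fin]
  intro i j e
  obtain ⟨c, hc⟩ := isConj_iff.1 (ConjClasses.mk_eq_mk_iff_isConj.1 e)
  have h := rank_conj (c : GL chevE6.Idx K) (rep i : GL chevE6.Idx K)
  rw [show (c : GL chevE6.Idx K) * rep i * (c : GL chevE6.Idx K)⁻¹ = rep j from congrArg Subtype.val hc] at h
  simp only [rep] at h
  rw [rep_ranks _ (by simp [reps]; omega), rep_ranks _ (by simp [reps]; omega)] at h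
  fin_cases i <;> fin_cases j <;> simp at h ⊢

end CfsgLib.Chev.E62Invol
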